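import Mathlib

/-!
The finite searches for the order of a simple group with an involution centralizer `2 × A₅`.
-/

set_option autoImplicit false

namespace CfsgLib.JankoOrder

/-- the candidates congruent to three modulo eight of absolute value below 760 -/
def threes : List ℤ := (List.range 191).map fun (i : ℕ) => 8 * (i : ℤ) - 757

/-- the candidates congruent to three modulo eight of absolute value below 917 -/
def threesWide : List ℤ := (List.range 230).map fun (i : ℕ) => 8 * (i : ℤ) - 917

/-- the check for a pair of signed degrees in the first configuration -/
def sunOK (c d : ℤ) : Bool :=
  let w := -1 - c - d
  let r := c * d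
  let den := (w + 1) * (r - 25 * w)
  let num := 86400 * w * r
  if den == 0 then num != 0 else
  if num % den != 0 then true else
  let n := num / den
  if n % 120 != 0 then true else
  if n < 1 + w * w + c * c + d * d then true else
  decide (n < 840000) && (n == 175560 || n == 189000 || threesWide.all fun a =>
    let b := -1 - w - a
    n * ((w + 1) * (a * b) + 9 * w * (a + b)) != 144000 * w * (a * b))

theorem sun_search : (threes.all fun c => threes.all fun d => decide (d < c) || sunOK c d) = true := by
  decide +kernel

/-- the candidates congruent to six modulo eight of absolute value below 540 -/
def sixes : List ℤ := (List.range 136).map fun (i : ℕ) => 8 * (i : ℤ) - 538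

/-- the check for the second configuration -/
def triOK (q : ℤ) : Bool :=
  let c := -1 - 2 * q
  let den := q * c + 8 * c + 25 * q
  let num := 86400 * (q * c)
  if den == 0 then num != 0 else
  if num % den != 0 then true else
  let n := num / den
  if n < 2 * (q * q) + c * c then true else
  decide (n < 288800) && sixes.all fun p =>
    let a := -1 - p - q
    n * (p * q * a + 36 * (q * a) + 4 * (p * a) + 9 * (p * q)) != 144000 * (p * q * a)

theorem tri_search : (sixes.all triOK) = true := by
  decide +kernel

end CfsgLib.JankoOrder
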