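import Cfsg.Agent.JankoOrder.Arith

/-!
The Diophantine step for the order of a simple group with an involution centralizer `2 × A₅`.
-/

set_option autoImplicit false

namespace CfsgLib.JankoOrder

theorem abs_div_le {a : ℚ} (ha : 0 ≤ a) {k : ℚ} (hk : 0 < k) {x : ℤ} (hx : k ≤ |(x : ℚ)|) :
    -(a / k) ≤ a / x ∧ a / (x : ℚ) ≤ a / k := by
  have h : |a / (x : ℚ)| ≤ a / k := by
    rw [abs_div, abs_of_nonneg ha]
    exact div_le_div_of_nonneg_left ha hk hx
  exact abs_le.mp h

theorem mem_threes {c : ℤ} (h : c % 8 = 3) (h1 : -760 < c) (h2 : c < 764) : c ∈ threes :=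
  by
  refine List.mem_map.mpr ⟨((c + 757) / 8).toNat, List.mem_range.mpr ?_, ?_⟩ <;> omega

theorem mem_threesWide {c : ℤ} (h : c % 8 = 3) (h1 : -920 < c) (h2 : c < 920) : c ∈ threesWide :=
  by
  refine List.mem_map.mpr ⟨((c + 917) / 8).toNat, List.mem_range.mpr ?_, ?_⟩ <;> omega

theorem mem_sixes {c : ℤ} (h : c % 8 = 6) (h1 : -540 < c) (h2 : c < 550) : c ∈ sixes :=
  by
  refine List.mem_map.mpr ⟨((c + 538) / 8).toNat, List.mem_range.mpr ?_, ?_⟩ <;> omega

section Sun

variable {N : ℕ} {W C D : ℤ}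

theorem bound_pair (hW : W % 8 = 1) (hC : C % 8 = 3) (hsum : 1 + W + C + D = 0)
    (he : (N : ℚ) * (1 + 1 / W + 25 / C + 25 / D) = 86400)
    (hsq : W * W + D * D ≤ N) (hC80 : |C| < 80) : |D| < 760 := by
  by_contra hD
  rw [not_lt] at hD
  rw [abs_lt] at hC80
  have hW680 : (680 : ℤ) ≤ |W| := by
    rcases le_abs.mp hD with h | h
    · exact le_abs.mpr (Or.inr (by omega))
    · exact le_abs.mpr (Or.inl (by omega))
  have hWq : (680 : ℚ) ≤ |(W : ℚ)| := by exact_mod_cast hW680
  have hDq : (760 : ℚ) ≤ |(D : ℚ)| := by exact_mod_cast hD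
  obtain ⟨w1, w2⟩ := abs_div_le (a := 1) zero_le_one (by norm_num) hWq
  obtain ⟨d1, d2⟩ := abs_div_le (a := 25) (by norm_num) (by norm_num) hDq
  have hN : (0 : ℚ) ≤ N := Nat.cast_nonneg N
  set y : ℚ := 1 + 1 / W + 25 / C + 25 / D with hy
  have hy0 : 0 < y := by
    by_contra hh
    nlinarith
  have hbase : (4 / 29 : ℚ) ≤ 1 + 25 / C := by
    rcases le_or_gt 0 C with h | h
    · have : (0 : ℚ) ≤ 25 / C := div_nonneg (by norm_num) (by exact_mod_cast h)
      linarith
    rcases le_or_gt C (-29) with h' | h'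
    · have hq : (29 : ℚ) ≤ |(C : ℚ)| := by
        rw [abs_of_neg (by exact_mod_cast h)]
        have : (C : ℚ) ≤ -29 := by exact_mod_cast h'
        linarith
      obtain ⟨c1, -⟩ := abs_div_le (a := 25) (by norm_num) (by norm_num) hq
      linarith
    · exfalso
      have h21 : (-21 : ℤ) ≤ C := by omega
      have hq : (C : ℚ) < 0 := by exact_mod_cast h
      have : 25 / (C : ℚ) ≤ -(25 / 21) := by
        rw [div_le_iff_of_neg hq]
        have : (-21 : ℚ) ≤ C := by exact_mod_cast h21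
        linarith
      linarith
  have hylow : (1 / 10 : ℚ) ≤ y := by linarith
  have hNle : (N : ℚ) ≤ 864000 := by nlinarith
  have hsq' : (W : ℚ) * W + D * D ≤ N := by exact_mod_cast hsq
  have e1 : (680 : ℚ) * 680 ≤ W * W := by
    rw [← abs_mul_abs_self (W : ℚ)]; exact mul_le_mul hWq hWq (by norm_num) (abs_nonneg _)
  have e2 : (760 : ℚ) * 760 ≤ D * D := by
    rw [← abs_mul_abs_self (D : ℚ)]; exact mul_le_mul hDq hDq (by norm_num) (abs_nonneg _)
  linarith

theorem bound_both (hW : W % 8 = 1) (hW0 : W ≠ 1)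
    (he : (N : ℚ) * (1 + 1 / W + 25 / C + 25 / D) = 86400)
    (hC : 80 ≤ |C|) (hD : 80 ≤ |D|) : (N : ℚ) ≤ 400000 := by
  have h7 : (7 : ℤ) ≤ |W| := by
    rcases le_or_gt W 0 with h | h
    · exact le_abs.mpr (Or.inr (by omega))
    · exact le_abs.mpr (Or.inl (by omega))
  obtain ⟨w1, w2⟩ := abs_div_le (a := 1) zero_le_one (k := 7) (by norm_num) (x := W) (by exact_mod_cast h7)
  obtain ⟨c1, c2⟩ := abs_div_le (a := 25) (by norm_num) (k := 80) (by norm_num) (x := C) (by exact_mod_cast hC)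
  obtain ⟨d1, d2⟩ := abs_div_le (a := 25) (by norm_num) (k := 80) (by norm_num) (x := D) (by exact_mod_cast hD)
  have hy : (216 / 1000 : ℚ) ≤ 1 + 1 / W + 25 / C + 25 / D := by linarith
  have hN : (0 : ℚ) ≤ N := Nat.cast_nonneg N
  nlinarith

theorem bound_both_one (he : (N : ℚ) * (1 + 1 / (1 : ℤ) + 25 / C + 25 / D) = 86400)
    (hC : 80 ≤ |C|) (hD : 80 ≤ |D|) : (N : ℚ) ≤ 400000 := by
  obtain ⟨c1, c2⟩ := abs_div_le (a := 25) (by norm_num) (k := 80) (by norm_num) (x := C) (by exact_mod_cast hC)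
  obtain ⟨d1, d2⟩ := abs_div_le (a := 25) (by norm_num) (k := 80) (by norm_num) (x := D) (by exact_mod_cast hD)
  push_cast at he
  have hy : (1 : ℚ) ≤ 1 + 1 / 1 + 25 / C + 25 / D := by norm_num; linarith
  have hN : (0 : ℚ) ≤ N := Nat.cast_nonneg N
  nlinarith

theorem abs_lt_760 (hW : W % 8 = 1) (hC : C % 8 = 3) (hD : D % 8 = 3) (hsum : 1 + W + C + D = 0)
    (he : (N : ℚ) * (1 + 1 / W + 25 / C + 25 / D) = 86400)
    (hsq : 1 + W * W + C * C + D * D ≤ N) : |C| < 760 ∧ |D| < 760 := by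
  rcases lt_or_ge |C| 80 with h | h
  · exact ⟨by omega, bound_pair hW hC hsum he
      (by nlinarith [mul_self_nonneg C]) h⟩
  rcases lt_or_ge |D| 80 with h' | h'
  · refine ⟨bound_pair (D := C) hW hD (by omega) ?_ (by nlinarith [mul_self_nonneg D]) h', by omega⟩
    rw [← he]; ring
  have hN : (N : ℚ) ≤ 400000 := by
    rcases eq_or_ne W 1 with rfl | h1
    · exact bound_both_one he h h'
    · exact bound_both hW h1 he h h'
  have hN' : (N : ℤ) ≤ 400000 := by exact_mod_cast hN
  constructor <;>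
    · rw [abs_lt]; constructor <;> nlinarith [mul_self_nonneg W]

theorem sun_cases_le {A B : ℤ} (hW : W % 8 = 1) (hC : C % 8 = 3) (hD : D % 8 = 3) (hA : A % 8 = 3)
    (hB : B % 8 = 3) (hsum : 1 + W + C + D = 0) (hsumA : 1 + W + A + B = 0) (h120 : 120 ∣ N)
    (he : (N : ℚ) * (1 + 1 / W + 25 / C + 25 / D) = 86400)
    (he' : (N : ℚ) * (1 + 1 / W + 9 / A + 9 / B) = 144000)
    (hsq : 1 + W * W + A * A + B * B + C * C + D * D ≤ N) (hCD : C ≤ D) :
    N = 175560 ∨ N = 189000 := by
  obtain ⟨hC', hD'⟩ := abs_lt_760 hW hC hD hsum he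
    (by nlinarith [mul_self_nonneg A, mul_self_nonneg B])
  rw [abs_lt] at hC' hD'
  have hk := List.all_eq_true.mp (List.all_eq_true.mp sun_search C
    (mem_threes hC (by omega) (by omega))) D (mem_threes hD (by omega) (by omega))
  rw [Bool.or_eq_true, decide_eq_true_eq] at hk
  replace hk := hk.resolve_left (not_lt.mpr hCD)
  have hW' : -1 - C - D = W := by omega
  simp only [sunOK, hW'] at hk
  set den := (W + 1) * (C * D - 25 * W) with hden
  set num := 86400 * W * (C * D) with hnum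
  have hW0 : (W : ℚ) ≠ 0 := by exact_mod_cast (show W ≠ 0 by omega)
  have hC0 : (C : ℚ) ≠ 0 := by exact_mod_cast (show C ≠ 0 by omega)
  have hD0 : (D : ℚ) ≠ 0 := by exact_mod_cast (show D ≠ 0 by omega)
  have hA0 : (A : ℚ) ≠ 0 := by exact_mod_cast (show A ≠ 0 by omega)
  have hB0 : (B : ℚ) ≠ 0 := by exact_mod_cast (show B ≠ 0 by omega)
  have hcd : (C : ℚ) + D = -1 - W := by exact_mod_cast (show C + D = -1 - W by omega)
  have key : (N : ℤ) * den = num := by
    rw [hden, hnum, ← Int.cast_inj (α := ℚ)]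
    push_cast
    field_simp at he
    linear_combination he + (-(25 : ℚ) * N * W) * hcd
  have hnum0 : num ≠ 0 := by
    rw [hnum]
    simp only [ne_eq, mul_eq_zero, not_or]
    omega
  have hden0 : den ≠ 0 := fun h => hnum0 (by rw [← key, h, mul_zero])
  have hmod : num % den = 0 := by rw [← key]; exact Int.mul_emod_left _ _
  have hdiv : num / den = N := by rw [← key]; exact Int.mul_ediv_cancel _ hden0
  have h120' : ((N : ℤ) % 120) = 0 := by omega
  simp only [beq_iff_eq, hden0, if_false, bne_iff_ne, ne_eq, hmod, not_true_eq_false, hdiv, h120']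
    at hk
  rw [if_neg (by nlinarith [mul_self_nonneg A, mul_self_nonneg B])] at hk
  simp only [Bool.and_eq_true, decide_eq_true_eq, Bool.or_eq_true, beq_iff_eq] at hk
  obtain ⟨hlt, (h1 | h2) | h3⟩ := hk
  · left; exact_mod_cast h1
  · right; exact_mod_cast h2
  · exfalso
    have hA' : -920 < A ∧ A < 920 := by
      constructor <;> nlinarith [mul_self_nonneg B, mul_self_nonneg W, mul_self_nonneg C,
        mul_self_nonneg D]
    have h := List.all_eq_true.mp h3 A (mem_threesWide hA hA'.1 hA'.2)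
    rw [show -1 - W - A = B by omega, bne_iff_ne] at h
    apply h
    rw [← Int.cast_inj (α := ℚ)]
    push_cast
    field_simp at he'
    linear_combination he'

theorem sun_cases {A B : ℤ} (hW : W % 8 = 1) (hC : C % 8 = 3) (hD : D % 8 = 3) (hA : A % 8 = 3)
    (hB : B % 8 = 3) (hsum : 1 + W + C + D = 0) (hsumA : 1 + W + A + B = 0) (h120 : 120 ∣ N)
    (he : (N : ℚ) * (1 + 1 / W + 25 / C + 25 / D) = 86400)
    (he' : (N : ℚ) * (1 + 1 / W + 9 / A + 9 / B) = 144000)
    (hsq : 1 + W * W + A * A + B * B + C * C + D * D ≤ N) : N = 175560 ∨ N = 189000 := by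
  rcases le_total C D with h | h
  · exact sun_cases_le hW hC hD hA hB hsum hsumA h120 he he' hsq h
  · refine sun_cases_le hW hD hC hA hB (by omega) hsumA h120 ?_ he' (by omega) h
    rw [← he]; ring

end Sun

/-- The second configuration does not occur. -/
theorem tri_impossible {N : ℕ} {P Q A C : ℤ} (hP : P % 8 = 6) (hQ : Q % 8 = 6) (hA : A % 8 = 3)
    (hsumA : 1 + P + Q + A = 0) (hsumC : 1 + Q + Q + C = 0)
    (he : (N : ℚ) * (1 + 8 / Q + 25 / C) = 86400)
    (he' : (N : ℚ) * (1 + 36 / P + 4 / Q + 9 / A) = 144000)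
    (hsqP : P * P ≤ N) (hsq : 2 * (Q * Q) + C * C ≤ N) : False := by
  have hN : (0 : ℚ) ≤ N := Nat.cast_nonneg N
  have hy : (3 / 10 : ℚ) ≤ 1 + 8 / Q + 25 / C := by
    have hy0 : 0 < 1 + 8 / (Q : ℚ) + 25 / C := by
      by_contra hh
      nlinarith
    rcases lt_or_ge |Q| 30 with h | h
    · rw [abs_lt] at h
      obtain rfl : C = -1 - 2 * Q := by omega
      have : Q = -26 ∨ Q = -18 ∨ Q = -10 ∨ Q = -2 ∨ Q = 6 ∨ Q = 14 ∨ Q = 22 := by omega
      rcases this with rfl | rfl | rfl | rfl | rfl | rfl | rfl <;> norm_num at hy0 ⊢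
    · obtain ⟨q1, q2⟩ := abs_div_le (a := 8) (by norm_num) (k := 30) (by norm_num) (x := Q)
        (by exact_mod_cast h)
      have h59 : (59 : ℤ) ≤ |C| := by
        rcases le_abs.mp h with h' | h'
        · exact le_abs.mpr (Or.inr (by omega))
        · exact le_abs.mpr (Or.inl (by omega))
      obtain ⟨c1, c2⟩ := abs_div_le (a := 25) (by norm_num) (k := 59) (by norm_num) (x := C)
        (by exact_mod_cast h59)
      linarith
  have hN' : (N : ℤ) ≤ 288000 := by
    have : (N : ℚ) ≤ 288000 := by nlinarith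
    exact_mod_cast this
  have hP' : -540 < P ∧ P < 540 := by constructor <;> nlinarith
  have hQ' : -540 < Q ∧ Q < 540 := by constructor <;> nlinarith [mul_self_nonneg C]
  have hk := List.all_eq_true.mp tri_search Q (mem_sixes hQ hQ'.1 (by omega))
  obtain rfl : C = -1 - 2 * Q := by omega
  simp only [triOK] at hk
  set C := -1 - 2 * Q with hC
  have hQ0 : (Q : ℚ) ≠ 0 := by exact_mod_cast (show Q ≠ 0 by omega)
  have hC0 : (C : ℚ) ≠ 0 := by exact_mod_cast (show C ≠ 0 by omega)
  have hP0 : (P : ℚ) ≠ 0 := by exact_mod_cast (show P ≠ 0 by omega)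
  have hA0 : (A : ℚ) ≠ 0 := by exact_mod_cast (show A ≠ 0 by omega)
  set den := Q * C + 8 * C + 25 * Q with hden
  set num := 86400 * (Q * C) with hnum
  have key : (N : ℤ) * den = num := by
    rw [hden, hnum, ← Int.cast_inj (α := ℚ)]
    push_cast
    field_simp at he
    linear_combination he
  have hnum0 : num ≠ 0 := by
    rw [hnum]
    simp only [ne_eq, mul_eq_zero, not_or]
    omega
  have hden0 : den ≠ 0 := fun h => hnum0 (by rw [← key, h, mul_zero])
  have hmod : num % den = 0 := by rw [← key]; exact Int.mul_emod_left _ _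
  have hdiv : num / den = N := by rw [← key]; exact Int.mul_ediv_cancel _ hden0
  simp only [beq_iff_eq, hden0, if_false, bne_iff_ne, ne_eq, hmod, not_true_eq_false, hdiv] at hk
  rw [if_neg (by omega)] at hk
  simp only [Bool.and_eq_true, decide_eq_true_eq] at hk
  have h := List.all_eq_true.mp hk.2 P (mem_sixes hP hP'.1 (by omega))
  rw [show -1 - P - Q = A by omega, bne_iff_ne] at h
  apply h
  rw [← Int.cast_inj (α := ℚ)]
  push_cast
  field_simp at he'
  linear_combination he'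

end CfsgLib.JankoOrder
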