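import Cfsg.Agent.JankoOrder.Data
import Cfsg.Agent.TIThree.Setting
import Cfsg.Agent.Chars.Basic
import Cfsg.Agent.Chars.GaloisHom.Basic
import Mathlib.RingTheory.RootsOfUnity.Complex

/-!
Columns of the character table on the special classes of `2 × A₅`.
-/

set_option autoImplicit false
set_option linter.style.haveILetI false
set_option linter.unusedSectionVars false

namespace CfsgLib.JankoOrder

open scoped ComplexConjugate
open Cfsg CfsgLib.Chars

universe u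

/-- An algebraic integer which is rational is an integer. -/
theorem exists_int_of_integral {z : ℂ} (hz : IsIntegral ℤ z) {r : ℚ} (h : z = (r : ℂ)) :
    ∃ n : ℤ, r = n := by
  have h' : IsIntegral ℤ r := by
    rw [← isIntegral_algebraMap_iff (A := ℚ) (B := ℂ) (algebraMap ℚ ℂ).injective]
    simpa [h] using hz
  obtain ⟨n, hn⟩ := IsIntegrallyClosed.isIntegral_iff.mp h'
  exact ⟨n, by simp [← hn]⟩

theorem extra_ty : (∃ g : Cen, g * (tK * yK) ^ 3 * g⁻¹ = tK * yK ^ 2) ∧ (tK * yK) ^ 5 = tK ∧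
    (tK * yK) ^ 7 = tK * yK ^ 2 ∧ (∃ g : Cen, g * (tK * yK) ^ 9 * g⁻¹ = tK * yK) ∧
    (tK * yK) ^ 10 = 1 ∧ (tK * xK) ^ 3 = tK ∧ (∃ g : Cen, g * (tK * xK) ^ 5 * g⁻¹ = tK * xK) ∧
    (tK * xK) ^ 6 = 1 ∧ (tK * xK) ^ 15 = tK ∧ tK ^ 15 = tK ∧ tK * yK ^ 4 = (tK * yK) ^ 9 := by
  refine ⟨?_, ?_, ?_, ?_, ?_, ?_, ?_, ?_, ?_, ?_, ?_⟩ <;> decide +kernel

variable {G : Type u} [Group G]

namespace Data

variable (D : Data G)

/-- the involution -/
def t : G := D.φ tK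

theorem t_sq : D.t * D.t = 1 := by rw [t, ← map_mul, tK_sq, map_one]

theorem t_inv : D.t⁻¹ = D.t := inv_eq_of_mul_eq_one_right D.t_sq

theorem t_ne : D.t ≠ 1 := fun h => tK_ne (D.inj (by rw [map_one]; exact h))

theorem commute_of_pow {k : Cen} (hk : k ^ 15 = tK) {g : G} (h : g * D.φ k = D.φ k * g) :
    g ∈ D.φ.range := by
  refine D.cent g ?_
  rw [← hk, map_pow]
  exact (Commute.pow_right (a := g) h 15).eq

theorem conj_iff {a b : Cen} (ha : a ^ 15 = tK) (hb : b ^ 15 = tK) :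
    IsConj (D.φ a) (D.φ b) ↔ ∃ g : Cen, g * a * g⁻¹ = b := by
  constructor
  · intro h
    obtain ⟨g, hg⟩ := isConj_iff.mp h
    have h15 : g * D.φ tK * g⁻¹ = D.φ tK := by
      conv_lhs => rw [← ha, map_pow, ← conj_pow, hg, ← map_pow, hb]
    obtain ⟨k, rfl⟩ := D.cent g (mul_inv_eq_iff_eq_mul.mp h15)
    exact ⟨k, D.inj (by simpa using hg)⟩
  · rintro ⟨g, rfl⟩
    exact isConj_iff.mpr ⟨D.φ g, by simp⟩

variable [Fintype G]

theorem card_centralizer {a : Cen} (ha : a ^ 15 = tK) :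
    Nat.card (Subgroup.centralizer ({D.φ a} : Set G)) = Fintype.card {k : Cen // k * a = a * k} := by
  rw [← Nat.card_eq_fintype_card]
  symm
  refine Nat.card_eq_of_bijective (fun k => ⟨D.φ k.1, Subgroup.mem_centralizer_singleton_iff.mpr
    (by rw [← map_mul, ← map_mul, k.2])⟩) ⟨fun k l h => Subtype.ext (D.inj (congrArg Subtype.val h)), ?_⟩
  rintro ⟨g, hg⟩
  have hg' := Subgroup.mem_centralizer_singleton_iff.mp hg
  obtain ⟨k, rfl⟩ := D.commute_of_pow ha hg'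
  exact ⟨⟨k, D.inj (by simpa using hg')⟩, rfl⟩

theorem val_inv {a : Cen} (h : ∃ g : Cen, g * a * g⁻¹ = a⁻¹) (χ : IrrCharacter G) :
    (χ : G → ℂ) (D.φ a)⁻¹ = (χ : G → ℂ) (D.φ a) := by
  obtain ⟨g, hg⟩ := h
  refine (eq_of_isConj (isClassFunction_coe χ) (isConj_iff.mpr ⟨D.φ g, ?_⟩)).symm
  rw [← map_inv, ← map_inv, ← hg]; simp

theorem val_conj {a b : Cen} (h : ∃ g : Cen, g * a * g⁻¹ = b) (χ : IrrCharacter G) :
    (χ : G → ℂ) (D.φ a) = (χ : G → ℂ) (D.φ b) := by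
  obtain ⟨g, rfl⟩ := h
  exact eq_of_isConj (isClassFunction_coe χ) (isConj_iff.mpr ⟨D.φ g, by simp⟩)

open Classical in
theorem column {a b : Cen} (ha : a ^ 15 = tK) (hb : b ^ 15 = tK)
    (hr : ∃ g : Cen, g * b * g⁻¹ = b⁻¹) :
    ∑ χ : IrrCharacter G, (χ : G → ℂ) (D.φ a) * (χ : G → ℂ) (D.φ b) =
      if ∃ g : Cen, g * a * g⁻¹ = b then (Fintype.card {k : Cen // k * a = a * k} : ℂ) else 0 := by
  have e : ∀ χ : IrrCharacter G, (χ : G → ℂ) (D.φ a) * (χ : G → ℂ) (D.φ b) =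
      (χ : G → ℂ) (D.φ a) * (χ : G → ℂ) (D.φ b)⁻¹ := fun χ => by rw [D.val_inv hr χ]
  rw [Finset.sum_congr rfl fun χ _ => e χ, sum_irr_mul_map_inv, D.card_centralizer ha]
  simp only [D.conj_iff ha hb]

theorem column_one {a : Cen} (ha : a ^ 15 = tK) :
    ∑ χ : IrrCharacter G, (χ : G → ℂ) (D.φ a) * (χ : G → ℂ) 1 = 0 := by
  have h := sum_irr_mul_map_inv (D.φ a) (1 : G)
  rw [inv_one, if_neg] at h
  · exact h
  · rw [isConj_one_left]
    intro e
    refine tK_ne (D.inj ?_)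
    rw [← ha, map_pow, e, one_pow, map_one]

end Data

theorem geom_count {n : ℕ} {z : ℂ} (hz : z ^ n = 1) :
    ∃ m : ℤ, ∑ i ∈ Finset.range n, z ^ i = (n : ℂ) * m := by
  by_cases h : z = 1
  · exact ⟨1, by simp [h]⟩
  · exact ⟨0, by rw [geom_sum_eq h, hz]; simp⟩

/-- The multiplicity of an eigenvalue is an integer. -/
theorem cyclic_count [Finite G] (χ : IrrCharacter G) {g : G} {n : ℕ} (hg : g ^ n = 1) {μ : ℂ}
    (hμ : μ ^ n = 1) :
    ∃ m : ℤ, ∑ i ∈ Finset.range n, (χ : G → ℂ) (g ^ i) * μ ^ i = (n : ℂ) * m := by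
  obtain ⟨s, h1, -, h3⟩ := exists_roots (isCharacter_coe χ) g
  obtain ⟨c, hc⟩ := orderOf_dvd_of_pow_eq_one hg
  have hn : ∀ z ∈ s, (z * μ) ^ n = 1 := fun z hz => by
    rw [mul_pow, hμ, mul_one, hc, pow_mul, h1 z hz, one_pow]
  simp only [h3]
  clear h3 h1
  induction s using Multiset.induction with
  | empty => exact ⟨0, by simp⟩
  | cons z s ih =>
    obtain ⟨m, hm⟩ := ih fun w hw => hn w (Multiset.mem_cons_of_mem hw)
    obtain ⟨m', hm'⟩ := geom_count (hn z (Multiset.mem_cons_self z s))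
    refine ⟨m' + m, ?_⟩
    simp only [Multiset.map_cons, Multiset.sum_cons, add_mul, Finset.sum_add_distrib, hm, ← mul_pow,
      hm']
    push_cast; ring

/-- The multiplicities for an element of order `2n` with central involution. -/
theorem odd_count [Finite G] (χ : IrrCharacter G) {g : G} {n : ℕ} (hg : g ^ (2 * n) = 1) {μ : ℂ}
    (hμ : μ ^ (2 * n) = 1) :
    ∃ m : ℤ, ∑ i ∈ Finset.range n, (χ : G → ℂ) (g ^ (2 * i + 1)) * μ ^ (2 * i + 1) = (n : ℂ) * m := by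
  obtain ⟨m, hm⟩ := cyclic_count χ hg hμ
  obtain ⟨m', hm'⟩ := cyclic_count χ hg (μ := -μ) (by rw [neg_pow, hμ, pow_mul]; simp)
  refine ⟨m - m', ?_⟩
  have split : ∀ f : ℕ → ℂ, ∑ i ∈ Finset.range (2 * n), f i =
      ∑ i ∈ Finset.range n, (f (2 * i) + f (2 * i + 1)) := by
    intro f
    induction n with
    | zero => simp
    | succ k ih' =>
      have key : ∀ j, ∑ i ∈ Finset.range (2 * j), f i =
          ∑ i ∈ Finset.range j, (f (2 * i) + f (2 * i + 1)) := by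
        intro j
        induction j with
        | zero => simp
        | succ j ihj =>
          rw [show 2 * (j + 1) = 2 * j + 1 + 1 by ring, Finset.sum_range_succ, Finset.sum_range_succ,
            Finset.sum_range_succ, ihj]
          ring
      exact key (k + 1)
  rw [split] at hm hm'
  have hodd : ∀ i, (-μ) ^ (2 * i + 1) = -(μ ^ (2 * i + 1)) := fun i => Odd.neg_pow ⟨i, rfl⟩ μ
  have heven : ∀ i, (-μ) ^ (2 * i) = μ ^ (2 * i) := fun i => Even.neg_pow ⟨i, by ring⟩ μ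
  simp only [hodd, heven, mul_neg, Finset.sum_add_distrib, Finset.sum_neg_distrib] at hm hm'
  push_cast at hm hm' ⊢
  linear_combination (1 / 2 : ℂ) * hm - (1 / 2 : ℂ) * hm'

/-- a primitive fifth root of unity -/
noncomputable def xi : ℂ := Complex.exp (2 * Real.pi * Complex.I / (5 : ℕ))

theorem xi_pow : xi ^ 5 = 1 := (Complex.isPrimitiveRoot_exp 5 (by norm_num)).pow_eq_one

theorem xi_sum : 1 + xi + xi ^ 2 + xi ^ 3 + xi ^ 4 = 0 := by
  have h := (Complex.isPrimitiveRoot_exp 5 (by norm_num)).geom_sum_eq_zero (by norm_num)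
  simp only [Finset.sum_range_succ, Finset.sum_range_zero, zero_add, pow_zero, pow_one] at h
  exact h

/-- the period -/
noncomputable def per : ℂ := xi + xi ^ 4

theorem per_sq : per * per + per = 1 := by
  unfold per
  linear_combination (2 + xi ^ 3) * xi_pow + xi_sum

namespace Data

variable (D : Data G) [Fintype G] (χ : IrrCharacter G)

/-- The value at `t x`. -/
noncomputable def W : ℂ := (χ : G → ℂ) (D.φ (tK * xK))

/-- The value at `t y`. -/
noncomputable def X : ℂ := (χ : G → ℂ) (D.φ (tK * yK))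

/-- The value at `t y²`. -/
noncomputable def Y : ℂ := (χ : G → ℂ) (D.φ (tK * yK ^ 2))

/-- The value at `t`. -/
noncomputable def V : ℂ := (χ : G → ℂ) (D.φ tK)

theorem exists_int_v : ∃ v : ℤ, D.V χ = v := by
  obtain ⟨m, hm⟩ := cyclic_count χ (g := D.φ tK) (n := 2)
    (by rw [pow_two, ← map_mul, tK_sq, map_one]) (μ := 1) (one_pow 2)
  refine ⟨2 * m - charDegree (χ : G → ℂ), ?_⟩
  simp only [Finset.sum_range_succ, Finset.sum_range_zero, zero_add, pow_zero, pow_one, one_pow,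
    mul_one, ← coe_charDegree] at hm
  show (χ : G → ℂ) (D.φ tK) = _
  push_cast at hm ⊢
  linear_combination hm

theorem three_count {μ : ℂ} (hμ : μ ^ 6 = 1) :
    ∃ m : ℤ, μ * D.W χ + μ ^ 3 * D.V χ + μ ^ 5 * D.W χ = 3 * m := by
  obtain ⟨-, -, -, -, -, h3, h5, h6, -⟩ := extra_ty
  obtain ⟨m, hm⟩ := odd_count χ (g := D.φ (tK * xK)) (n := 3) (by rw [← map_pow, h6, map_one]) hμ
  refine ⟨m, ?_⟩
  simp only [Finset.sum_range_succ, Finset.sum_range_zero, zero_add, ← map_pow] at hm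
  norm_num only at hm
  rw [pow_one, pow_one, h3, D.val_conj h5 χ] at hm
  show μ * (χ : G → ℂ) _ + μ ^ 3 * (χ : G → ℂ) _ + μ ^ 5 * (χ : G → ℂ) _ = _
  push_cast at hm
  linear_combination hm

theorem five_count {μ : ℂ} (hμ : μ ^ 10 = 1) :
    ∃ m : ℤ, μ * D.X χ + μ ^ 3 * D.Y χ + μ ^ 5 * D.V χ + μ ^ 7 * D.Y χ + μ ^ 9 * D.X χ = 5 * m := by
  obtain ⟨h3, h5, h7, h9, h10, -⟩ := extra_ty
  obtain ⟨m, hm⟩ := odd_count χ (g := D.φ (tK * yK)) (n := 5) (by rw [← map_pow, h10, map_one]) hμ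
  refine ⟨m, ?_⟩
  simp only [Finset.sum_range_succ, Finset.sum_range_zero, zero_add, ← map_pow] at hm
  norm_num only at hm
  rw [pow_one, pow_one, h5, h7, D.val_conj h3 χ, D.val_conj h9 χ] at hm
  show μ * (χ : G → ℂ) _ + μ ^ 3 * (χ : G → ℂ) _ + μ ^ 5 * (χ : G → ℂ) _ + μ ^ 7 * (χ : G → ℂ) _ +
    μ ^ 9 * (χ : G → ℂ) _ = _
  push_cast at hm
  linear_combination hm

theorem exists_coeffs : ∃ a b c f : ℤ, D.V χ = (3 * a + 3 * b - 5 * c + 4 * f : ℤ) ∧
    D.W χ = (c + f : ℤ) ∧ D.X χ + D.Y χ = (a + b - 2 * f : ℤ) ∧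
    (2 * per + 1) * (D.X χ - D.Y χ) = 5 * ((a - b : ℤ) : ℂ) := by
  obtain ⟨v, hv⟩ := D.exists_int_v χ
  obtain ⟨k, hk⟩ := D.three_count χ (μ := 1) (one_pow 6)
  obtain ⟨ω, hω⟩ : ∃ ω : ℂ, ω ^ 2 + ω + 1 = 0 := by
    obtain ⟨ω, hω⟩ := IsAlgClosed.exists_pow_nat_eq (-3 : ℂ) (n := 2) (by norm_num)
    exact ⟨(-1 + ω) / 2, by linear_combination (1 / 4 : ℂ) * hω⟩
  have hω3 : ω ^ 3 = 1 := by linear_combination (ω - 1) * hω
  obtain ⟨k', hk'⟩ := D.three_count χ (μ := ω) (by linear_combination (ω ^ 3 + 1) * hω3)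
  obtain ⟨J, hJ⟩ := D.five_count χ (μ := 1) (one_pow 10)
  have hx10 : ∀ i : ℕ, (xi ^ i) ^ 10 = 1 := fun i => by
    rw [← pow_mul, show i * 10 = 5 * (2 * i) by ring, pow_mul, xi_pow, one_pow]
  obtain ⟨L, hL⟩ := D.five_count χ (μ := xi ^ 1) (hx10 1)
  obtain ⟨M, hM⟩ := D.five_count χ (μ := xi ^ 2) (hx10 2)
  simp only [one_mul, one_pow] at hk hJ
  have hw : D.W χ = ((k - k' : ℤ) : ℂ) := by
    push_cast
    linear_combination (1 / 3 : ℂ) * hk - (1 / 3 : ℂ) * hk' +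
      (1 / 3 : ℂ) * (D.W χ * hω + (D.V χ + ω ^ 2 * D.W χ) * hω3)
  have hint : IsIntegral ℤ (D.X χ + D.Y χ) :=
    (isIntegral_apply (isCharacter_coe χ) _).add (isIntegral_apply (isCharacter_coe χ) _)
  obtain ⟨S, hS⟩ := exists_int_of_integral hint (r := (5 * J - v : ℚ) / 2)
    (by push_cast; linear_combination (1 / 2 : ℂ) * hJ - (1 / 2 : ℂ) * hv)
  have hS' : 2 * S = 5 * J - v := by
    have h2 : ((2 * S : ℤ) : ℚ) = ((5 * J - v : ℤ) : ℚ) := by push_cast; linear_combination (-2 : ℚ) * hS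
    exact_mod_cast h2
  have hSc : D.X χ + D.Y χ = (S : ℂ) := by
    have hS'' : (2 : ℂ) * S = 5 * J - v := by exact_mod_cast hS'
    linear_combination (1 / 2 : ℂ) * hJ - (1 / 2 : ℂ) * hv - (1 / 2 : ℂ) * hS''
  have hq : xi ^ 2 + xi ^ 3 = -1 - per := by unfold per; linear_combination xi_sum
  have hL' : D.V χ + per * D.X χ + (-1 - per) * D.Y χ = 5 * (L : ℂ) := by
    rw [← hq, ← hL]; unfold per
    linear_combination (-(xi ^ 2 * D.Y χ) - D.V χ - xi ^ 4 * D.X χ) * xi_pow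
  have hM' : D.V χ + (-1 - per) * D.X χ + per * D.Y χ = 5 * (M : ℂ) := by
    rw [← hq, ← hM]; unfold per
    linear_combination (-(xi * D.Y χ + D.V χ * (xi ^ 5 + 1) + xi ^ 4 * D.Y χ * (xi ^ 5 + 1) +
      xi ^ 3 * D.X χ * (xi ^ 10 + xi ^ 5 + 1))) * xi_pow
  have h3k : 3 * k = v + 2 * (k - k') := by
    have h : ((3 * k : ℤ) : ℂ) = ((v + 2 * (k - k') : ℤ) : ℂ) := by
      push_cast at hw ⊢
      linear_combination -hk + hv + 2 * hw
    exact_mod_cast h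
  have hLM : 5 * (L + M) = 2 * v - S := by
    have h : ((5 * (L + M) : ℤ) : ℂ) = ((2 * v - S : ℤ) : ℂ) := by
      push_cast
      linear_combination -hL' - hM' + 2 * hv - hSc
    exact_mod_cast h
  obtain ⟨f, hf⟩ : ∃ f, 2 * f = k - J := ⟨(k - J) / 2, by omega⟩
  obtain ⟨c, hc⟩ : ∃ c, 2 * c = 2 * k + J - v := ⟨(2 * k + J - v) / 2, by omega⟩
  refine ⟨L + c - f, M + c - f, c, f, ?_, ?_, ?_, ?_⟩
  · rw [hv]; congr 1; omega
  · rw [hw]; congr 1; omega
  · rw [hSc]; congr 1; omega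
  · push_cast
    linear_combination hL' - hM'

end Data

end CfsgLib.JankoOrder
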