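import Cfsg.Agent.JankoOrder.Model
import Cfsg.Agent.S1244
import Cfsg.Prelude.Def_SporadicB

/-!
A group with an involution centralizer `2 × A₅`: embedding and fusion.
-/

set_option autoImplicit false
set_option linter.style.haveILetI false

namespace CfsgLib.JankoOrder

open Subgroup

universe u

/-- An embedded centralizer `2 × A₅` of an involution in a group with one class of involutions. -/
structure Data (G : Type u) [Group G] where
  /-- the embedding -/
  φ : Cen →* G
  inj : Function.Injective φ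
  cent : ∀ g : G, g * φ tK = φ tK * g → g ∈ φ.range
  oneClass : ∀ g : G, g * g = 1 → g ≠ 1 → IsConj (φ tK) g
  exp_two : ∀ (g : G) (k : ℕ), g ^ (2 ^ k) = 1 → g * g = 1

theorem exists_data {G : Type u} [Group G] [Finite G] (hG : ∀ H : Subgroup G, H.index ≠ 2) (t : G)
    (ht : Cfsg.IsTwoCentralInvolution t)
    (e : Subgroup.centralizer ({t} : Set G) ≃* Cen) : ∃ D : Data G, D.φ tK = t := by
  classical
  haveI : Fact (Nat.Prime 2) := ⟨Nat.prime_two⟩
  set C := Subgroup.centralizer ({t} : Set G) with hC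
  obtain ⟨ht2, P, htP, hPt⟩ := ht
  set φ : Cen →* G := C.subtype.comp e.symm.toMonoidHom with hφdef
  have hφ : Function.Injective φ := C.subtype_injective.comp e.symm.injective
  have hφC : ∀ c : C, φ (e c) = c := fun c => by simp [hφdef]
  have ht0 : t ≠ 1 := fun h => by rw [h, orderOf_one] at ht2; norm_num at ht2
  have htC : t ∈ C := mem_centralizer_singleton_iff.mpr rfl
  have htK : φ tK = t := by
    rcases central_eq (e ⟨t, htC⟩) (fun l => by
        obtain ⟨c, rfl⟩ := e.surjective l
        rw [← map_mul, ← map_mul]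
        exact congrArg e (Subtype.ext (mem_centralizer_singleton_iff.mp c.2).symm)) with h | h
    · exact absurd ((hφC ⟨t, htC⟩).symm.trans (by rw [h, map_one])) ht0
    · rw [← h, hφC]
  have hPC : (P : Subgroup G) ≤ C := fun x hx => mem_centralizer_singleton_iff.mpr (hPt x hx)
  set ι : (P : Subgroup G) →* Cen := e.toMonoidHom.comp (Subgroup.inclusion hPC)
  have hι : Function.Injective ι := e.injective.comp (Subgroup.inclusion_injective hPC)
  have hιφ : ∀ x : (P : Subgroup G), φ (ι x) = x := fun x => hφC (Subgroup.inclusion hPC x)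
  have hK : Nat.card Cen = 120 := by
    rw [← Nat.card_congr (Equiv.subtypeUnivEquiv (p := fun k : Cen => k * tK = tK * k) fun k => ?_),
      Nat.card_eq_fintype_card, card_tK]
    apply hφ
    rw [map_mul, map_mul, htK]
    exact mem_centralizer_singleton_iff.mp ((e.symm k).2)
  -- the order of the Sylow subgroup
  obtain ⟨j, hj⟩ := IsPGroup.iff_card.mp P.2
  have hP8 : Nat.card (P : Subgroup G) = 8 := by
    have h1 : Nat.card (P : Subgroup G) ∣ 120 := hK ▸ Subgroup.card_dvd_of_injective ι hι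
    have h2 : (8 : ℕ) ∣ Nat.card (P : Subgroup G) := by
      refine P.pow_dvd_card_of_pow_dvd_card (n := 3) ?_
      refine (show (2 : ℕ) ^ 3 ∣ Nat.card Cen by rw [hK]; norm_num).trans ?_
      exact Subgroup.card_dvd_of_injective φ hφ
    rw [hj] at h1 h2 ⊢
    rcases lt_or_ge j 4 with h | h
    · interval_cases j <;> first | rfl | norm_num at h2
    · exact absurd ((pow_dvd_pow 2 h).trans h1) (by norm_num)
  have hsq : ∀ x : (P : Subgroup G), x * x = 1 := by
    intro x
    apply hι
    rw [map_mul, map_one]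
    refine two_elements _ ?_
    rw [← map_pow, ← hP8, pow_card_eq_one', map_one]
  haveI hPc : IsMulCommutative (P : Subgroup G) := ⟨⟨fun a b => by
    have hi : ∀ x : (P : Subgroup G), x⁻¹ = x := fun x => inv_eq_of_mul_eq_one_right (hsq x)
    calc a * b = (a * b)⁻¹ := (hi _).symm
    _ = b⁻¹ * a⁻¹ := mul_inv_rev a b
    _ = b * a := by rw [hi, hi]⟩⟩
  -- the even part
  set ψ : (P : Subgroup G) →* Multiplicative (ZMod 2) := (MonoidHom.fst _ _).comp ι with hψ
  have htιt : ι ⟨t, htP⟩ = tK := hφ (by rw [hιφ, htK])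
  have hker : Nat.card ψ.ker = 4 := by
    have hr : Nat.card ψ.range = 2 := by
      refine le_antisymm ?_ ?_
      · exact (Subgroup.card_le_card_group _).trans (by simp)
      · rw [Nat.succ_le_iff]
        refine Finite.one_lt_card_iff_nontrivial.mpr ((Subgroup.nontrivial_iff_ne_bot _).mpr fun h => ?_)
        have : ψ ⟨t, htP⟩ ∈ ψ.range := ⟨_, rfl⟩
        rw [h, Subgroup.mem_bot, hψ, MonoidHom.comp_apply, htιt] at this
        exact tK_fst this
    have h := Subgroup.card_eq_card_quotient_mul_card_subgroup ψ.ker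
    rw [hP8, Nat.card_congr (QuotientGroup.quotientKerEquivRange ψ).toEquiv, hr] at h
    omega
  set R := ψ.ker.map (P : Subgroup G).subtype with hR
  have hRc : Nat.card R = 4 := by
    rw [hR, Subgroup.card_map_of_injective (P : Subgroup G).subtype_injective, hker]
  have hone : ∀ g : G, g * g = 1 → g ≠ 1 → IsConj g (φ vK) := by
    intro g hg hg1
    have hgP : IsPGroup 2 (Subgroup.zpowers g) := by
      refine IsPGroup.of_card (n := 1) ?_
      rw [Nat.card_zpowers, pow_one]
      exact orderOf_eq_prime (by rw [pow_two, hg]) hg1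
    obtain ⟨Q, hQ⟩ := hgP.exists_le_sylow
    obtain ⟨c, hc⟩ := MulAction.exists_smul_eq G Q P
    have hmem : c * g * c⁻¹ ∈ (P : Subgroup G) := by
      rw [← hc, Sylow.coe_subgroup_smul]
      exact Subgroup.smul_mem_pointwise_smul g (MulAut.conj c) _ (hQ (Subgroup.mem_zpowers g))
    have hord : orderOf (c * g * c⁻¹) = 2 := by
      refine orderOf_eq_prime ?_ (by rwa [ne_eq, conj_eq_one_iff])
      rw [conj_pow, pow_two, hg, mul_one, mul_inv_cancel]
    have hrP : Cfsg.PRankLE 2 3 (P : Subgroup G) ∧ ¬ Cfsg.PRankLE 2 (3 - 1) (P : Subgroup G) := by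
      refine ⟨fun A _ _ => (Subgroup.card_le_card_group A).trans (le_of_eq hP8), fun h => ?_⟩
      have h8 := h ⊤ ⟨⟨fun a b => Subtype.ext (mul_comm' (a : (P : Subgroup G)) b)⟩⟩
        (fun a _ => by rw [pow_two, hsq])
      rw [Subgroup.card_top, hP8] at h8
      norm_num at h8
    have hrR : Cfsg.PRankLE 2 (3 - 1) R ∧ (3 = 1 ∨ ¬ Cfsg.PRankLE 2 (3 - 2) R) := by
      refine ⟨fun A _ _ => (Subgroup.card_le_card_group A).trans (le_of_eq hRc), Or.inr fun h => ?_⟩
      have hRP : R ≤ P := Subgroup.map_subtype_le _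
      have h4 := h ⊤ ⟨⟨fun a b => Subtype.ext (Subtype.ext
          (congrArg Subtype.val (mul_comm' (⟨(a : R).1, hRP (a : R).2⟩ : (P : Subgroup G))
            ⟨(b : R).1, hRP (b : R).2⟩) :))⟩⟩
        (fun a _ => Subtype.ext (by
          rw [SubmonoidClass.coe_pow, pow_two]
          exact congrArg Subtype.val (hsq ⟨a.1, hRP a.2⟩)))
      rw [Subgroup.card_top, hRc] at h4
      norm_num at h4
    obtain ⟨n, -, hn⟩ := Cfsg.Agent.S1244.result hG P inferInstance 3 (by norm_num)
      hrP R (Subgroup.map_subtype_le _) hrR _ hord hmem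
    obtain ⟨r, hr, hre⟩ := hn
    have hm1 : n * (c * g * c⁻¹) * n⁻¹ = φ (ι r) := by rw [hιφ, ← hre]; rfl
    have hsq' : (ι r) * (ι r) = 1 := by rw [← map_mul, hsq, map_one]
    have hne : ι r ≠ 1 := fun h => by
      rw [h, map_one, conj_eq_one_iff, conj_eq_one_iff] at hm1
      exact hg1 hm1
    rcases even_involutions_conj (ι r) with h | ⟨k, hk⟩
    · exact absurd ⟨MonoidHom.mem_ker.mp hr, hsq', hne⟩ h
    · refine isConj_iff.mpr ⟨φ k * (n * c), ?_⟩
      rw [← hk, map_mul, map_mul, map_inv, ← hm1]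
      group
  refine ⟨⟨φ, hφ, fun g hg => ?_, fun g hg hg1 => ?_, fun g k hk => ?_⟩, htK⟩
  · have hg' : g ∈ C := mem_centralizer_singleton_iff.mpr (by rwa [htK] at hg)
    exact ⟨e ⟨g, hg'⟩, hφC ⟨g, hg'⟩⟩
  · refine (hone _ ?_ ?_).trans (hone g hg hg1).symm
    · rw [← map_mul, tK_sq, map_one]
    · rw [htK]; exact ht0
  · have hgp : IsPGroup 2 (Subgroup.zpowers g) := by
      obtain ⟨i, -, hi⟩ := (Nat.dvd_prime_pow Nat.prime_two).mp (orderOf_dvd_of_pow_eq_one hk)
      exact IsPGroup.of_card (n := i) (by rw [Nat.card_zpowers, hi])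
    obtain ⟨Q, hQ⟩ := hgp.exists_le_sylow
    obtain ⟨c, hc⟩ := MulAction.exists_smul_eq G Q P
    have hmem : c * g * c⁻¹ ∈ (P : Subgroup G) := by
      rw [← hc, Sylow.coe_subgroup_smul]
      exact Subgroup.smul_mem_pointwise_smul g (MulAut.conj c) _ (hQ (Subgroup.mem_zpowers g))
    have h := congrArg Subtype.val (hsq ⟨_, hmem⟩)
    have h' : c * (g * g) * c⁻¹ = 1 := by
      refine Eq.trans ?_ h
      show _ = c * g * c⁻¹ * (c * g * c⁻¹)
      group
    exact conj_eq_one_iff.mp h'

end CfsgLib.JankoOrder
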