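import Mathlib

/-!
Two commuting elements of order three.
-/

set_option autoImplicit false

namespace CfsgLib.JankoOrder

variable {G : Type*} [Group G]

/-- the product of powers with exponents modulo three -/
def ee (x a : G) (i j : ZMod 3) : G := x ^ i.val * a ^ j.val

/-- A commuting pair of elements of exponent three. -/
structure Pair (x a : G) : Prop where
  hx : x ^ 3 = 1
  ha : a ^ 3 = 1
  comm : Commute x a

theorem pow_val_add {x : G} (hx : x ^ 3 = 1) (i k : ZMod 3) :
    x ^ (i + k).val = x ^ i.val * x ^ k.val := by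
  rw [ZMod.val_add, ← pow_add, ← pow_eq_pow_mod _ hx]

namespace Pair

variable {x a : G} (P : Pair x a)
include P

theorem mul (i j k l : ZMod 3) : ee x a i j * ee x a k l = ee x a (i + k) (j + l) := by
  unfold ee
  rw [pow_val_add P.hx, pow_val_add P.ha]
  have h := (P.comm.pow_pow k.val j.val).eq
  calc x ^ i.val * a ^ j.val * (x ^ k.val * a ^ l.val)
      = x ^ i.val * (a ^ j.val * x ^ k.val) * a ^ l.val := by group
  _ = x ^ i.val * (x ^ k.val * a ^ j.val) * a ^ l.val := by rw [h]
  _ = x ^ i.val * x ^ k.val * (a ^ j.val * a ^ l.val) := by group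

theorem inv (i j : ZMod 3) : (ee x a i j)⁻¹ = ee x a (-i) (-j) := by
  refine inv_eq_of_mul_eq_one_right ?_
  rw [P.mul, add_neg_cancel, add_neg_cancel]
  simp [ee]

theorem conj_left (r : G) {i j k l : ZMod 3} (h1 : r * x * r⁻¹ = ee x a i j)
    (h2 : r * a * r⁻¹ = ee x a k l) (m n : ZMod 3) :
    r * ee x a m n * r⁻¹ = ee x a (i * m + k * n) (j * m + l * n) := by
  have hp : ∀ (p q : ZMod 3) (s : ℕ), ee x a p q ^ s = ee x a ((s : ZMod 3) * p) ((s : ZMod 3) * q) := by
    intro p q s
    induction s with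
    | zero => simp [ee]
    | succ s ih => rw [pow_succ, ih, P.mul]; push_cast; congr 1 <;> ring
  rw [show r * ee x a m n * r⁻¹ = (r * x * r⁻¹) ^ m.val * (r * a * r⁻¹) ^ n.val by
    rw [conj_pow, conj_pow, ee]; group, h1, h2, hp, hp, P.mul]
  simp only [ZMod.natCast_val, ZMod.cast_id, id_eq]
  congr 1 <;> ring

theorem one_zero : ee x a 1 0 = x := by
  simp [ee, show (1 : ZMod 3).val = 1 from rfl]

theorem zero_one : ee x a 0 1 = a := by
  simp [ee, show (1 : ZMod 3).val = 1 from rfl]

theorem zero_zero : ee x a 0 0 = 1 := by simp [ee]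

theorem two_zero : ee x a 2 0 = x * x := by
  rw [show (2 : ZMod 3) = 1 + 1 from rfl, show (0 : ZMod 3) = 0 + 0 from rfl, ← P.mul, P.one_zero]

end Pair

end CfsgLib.JankoOrder
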