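import Cfsg.Agent.JankoOrder.Three
import Cfsg.Agent.JankoOrder.Pair

/-!
The order 189000 is impossible.
-/

set_option autoImplicit false
set_option linter.style.haveILetI false
set_option linter.unusedSectionVars false

namespace CfsgLib.JankoOrder

open Subgroup

universe u

theorem three_exp : ∀ k : Cen, k ^ 27 = 1 → k ^ 3 = 1 := by decide +kernel

theorem cx_long : ∀ k : Cen, ¬ (k * xK = xK * k ∧ k ^ 27 = 1) ∨ k = 1 ∨ k = xK ∨ k = xK * xK := by
  decide +kernel

theorem cases_three : ∀ j k : ZMod 3, j * k = 2 →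
    (2 * 2 + -k * j = 2 ∧ 2 * j = 2 * j) ∧ j * 2 ≠ 0 := by decide +kernel

theorem scale_three : ∀ m l : ZMod 3, m ≠ 0 → l ≠ 0 → l * m = 2 ∨ (2 * l) * m = 2 := by decide +kernel

theorem sq_one_three : ∀ l : ZMod 3, l * l = 1 → l = 1 ∨ l = 2 := by decide +kernel

theorem cube_one_three : ∀ i : ZMod 3, i * i * i = 1 → i = 1 := by decide +kernel

theorem eq_neg_three : ∀ i : ZMod 3, i = -i → i = 0 := by decide +kernel

theorem zero_of_three : (3 : ZMod 3) = 0 := by decide +kernel

theorem cube_rules {G : Type*} [Group G] {x : G} (h : x ^ 3 = 1) :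
    x * x * x = 1 ∧ x * x * (x * x) = x ∧ x⁻¹ = x * x := by
  have h3 : x * x * x = 1 := by rw [← h, pow_succ, pow_two]
  refine ⟨h3, by rw [← mul_assoc, h3, one_mul], inv_eq_of_mul_eq_one_right (by rw [← mul_assoc]; exact h3)⟩

theorem conj_cube {G : Type*} [Group G] (r y : G) :
    r * (r * (r * y * r⁻¹) * r⁻¹) * r⁻¹ = r ^ 3 * y * (r ^ 3)⁻¹ := by
  rw [pow_succ, pow_two]; group

theorem closed_three :
    ¬(0 * (1 * 0 + 0 * 2) + 2 * (0 * 0 + 2 * 2) = (1 : ZMod 3)) ∧ ¬((2 : ZMod 3) = 1) := by decide +kernel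

theorem fixed_three : ∀ i j : ZMod 3, j + (0 * i + 2 * j) = 0 ∧ (i + (1 * i + 0 * j) = 0 → i = 0) := by
  decide +kernel

theorem inverse_three : ∀ i j : ZMod 3, 2 * i + 0 * j = -i ∧ 0 * i + 2 * j = -j ∧ 0 * i + 1 * j = j := by
  decide +kernel

theorem inv_pair {G : Type*} [Group G] {x a : G} (P : Pair x a) :
    x⁻¹ = ee x a 2 0 ∧ a⁻¹ = ee x a 0 2 := by
  constructor
  · calc x⁻¹ = (ee x a 1 0)⁻¹ := by rw [P.one_zero]
    _ = ee x a 2 0 := by rw [P.inv]; rfl
  · calc a⁻¹ = (ee x a 0 1)⁻¹ := by rw [P.zero_one]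
    _ = ee x a 0 2 := by rw [P.inv]; rfl

/-- An automorphism of `p`-power order of a group of order 27 is trivial when `p` is five or seven. -/
theorem aut_trivial {R : Type*} [Group R] [Finite R] (hR : Nat.card R = 27) {p : ℕ} [Fact p.Prime]
    (hp : ∀ d ∈ [1, 3, 9], ¬ 27 ≡ d [MOD p]) {σ : MulAut R} {m : ℕ} (hσ : σ ^ (p ^ m) = 1) : σ = 1 := by
  have hpg : IsPGroup p (zpowers σ) := by
    obtain ⟨i, -, hi⟩ := (Nat.dvd_prime_pow Fact.out).mp (orderOf_dvd_of_pow_eq_one hσ)
    exact IsPGroup.of_card (n := i) (by rw [Nat.card_zpowers, hi])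
  have h := hpg.card_modEq_card_fixedPoints R
  let F : Subgroup R := σ.toMonoidHom.eqLocus (MonoidHom.id R)
  have hF : Nat.card (MulAction.fixedPoints (zpowers σ) R) = Nat.card F := by
    refine Nat.card_congr (Equiv.subtypeEquivRight fun r => ⟨fun hr => ?_, fun hr τ => ?_⟩)
    · exact hr ⟨σ, mem_zpowers σ⟩
    · obtain ⟨_, n, rfl⟩ := τ
      show (σ ^ n) r = r
      have hr' : σ r = r := hr
      induction n using Int.induction_on with
      | zero => simp
      | succ n ih => rw [zpow_add_one, MulAut.mul_apply, hr', ih]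
      | pred n ih =>
        rw [zpow_sub_one, MulAut.mul_apply]
        rw [show σ⁻¹ r = r by conv_lhs => rw [← hr', MulAut.inv_apply_self]]
        exact ih
  rw [hF, hR] at h
  obtain ⟨i, hi, hFi⟩ := (Nat.dvd_prime_pow Nat.prime_three).mp
    (show Nat.card F ∣ 3 ^ 3 by rw [show (3 : ℕ) ^ 3 = 27 by norm_num, ← hR]; exact F.card_subgroup_dvd_card)
  have htop : F = ⊤ := by
    rw [← Subgroup.card_eq_iff_eq_top, hR, hFi]
    rw [hFi] at h
    interval_cases i
    · exact absurd h (hp 1 (by simp))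
    · exact absurd h (hp 3 (by simp))
    · exact absurd h (hp 9 (by simp))
    · rfl
  refine MulEquiv.ext fun r => ?_
  have : r ∈ F := by rw [htop]; exact mem_top r
  exact this

variable {G : Type u} [Group G] [Finite G]

/-- A subgroup of order nine in a group of order 27. -/
theorem nine_in_twentyseven {E R : Subgroup G} (hER : E ≤ R) (hE : Nat.card E = 9)
    (hR : Nat.card R = 27) {r : G} (hr : r ∈ R) :
    (∀ q ∈ E, r * q * r⁻¹ ∈ E) ∧ r ^ 3 ∈ E := by
  have hidx : (E.subgroupOf R).index = 3 := by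
    have h := (E.subgroupOf R).card_mul_index
    rw [Nat.card_congr (subgroupOfEquivOfLe hER).toEquiv, hE, hR] at h
    omega
  haveI hn : (E.subgroupOf R).Normal := normal_of_index_eq_minFac_card (by rw [hidx, hR]; norm_num)
  refine ⟨fun q hq => ?_, ?_⟩
  · exact hn.conj_mem ⟨q, hER hq⟩ hq ⟨r, hr⟩
  · have := Subgroup.pow_index_mem (E.subgroupOf R) ⟨r, hr⟩
    rw [hidx] at this
    exact this

theorem card_pair {x a : G} {E : Subgroup G} (P : Pair x a) (hx : x ∈ E) (ha : a ∈ E)
    (hinj : ∀ i j, ee x a i j = 1 → i = 0 ∧ j = 0) :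
    9 ≤ Nat.card E ∧ (Nat.card E = 9 → ∀ q ∈ E, ∃ i j, q = ee x a i j) := by
  set F : ZMod 3 × ZMod 3 → E := fun p => ⟨ee x a p.1 p.2, mul_mem (pow_mem hx _) (pow_mem ha _)⟩
  have hF : Function.Injective F := by
    intro p q h
    have h' : ee x a p.1 p.2 = ee x a q.1 q.2 := congrArg Subtype.val h
    have h2 : ee x a (p.1 + -q.1) (p.2 + -q.2) = 1 := by
      rw [← P.mul, ← P.inv, h', mul_inv_cancel]
    obtain ⟨h3, h4⟩ := hinj _ _ h2
    exact Prod.ext (by linear_combination h3) (by linear_combination h4)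
  have h9 : Nat.card (ZMod 3 × ZMod 3) = 9 := by simp
  refine ⟨h9 ▸ Nat.card_le_card_of_injective F hF, fun hE q hq => ?_⟩
  obtain ⟨p, hp⟩ := ((Nat.bijective_iff_injective_and_card F).mpr ⟨hF, by rw [h9, hE]⟩).2 ⟨q, hq⟩
  exact ⟨p.1, p.2, (congrArg Subtype.val hp).symm⟩

namespace Data

variable (D : Data G)

include D in
theorem eq_one_of_fixed_inverted {g : G} (hg : g ^ 27 = 1) (h : g = g⁻¹) : g = 1 := by
  have h2 : g ^ 2 = 1 := by rw [pow_two]; nth_rw 2 [h]; exact mul_inv_cancel g
  have e : g ^ 27 = (g ^ 2) ^ 13 * g := by rw [← pow_mul, ← pow_succ]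
  rw [hg, h2, one_pow, one_mul] at e
  exact e.symm

include D in
/-- An element of three-power order fixed by an involution has exponent three. -/
theorem cube_of_fixed {s g : G} (hs : s * s = 1) (hs1 : s ≠ 1) (hsg : s * g = g * s)
    (hg : g ^ 27 = 1) : g ^ 3 = 1 := by
  obtain ⟨c, hc⟩ := isConj_iff.mp (D.oneClass s hs hs1)
  obtain ⟨k, hk⟩ := D.cent (c⁻¹ * g * c) (by
    calc (c⁻¹ * g * c) * D.φ tK = c⁻¹ * (g * (c * D.φ tK * c⁻¹)) * c := by group
    _ = c⁻¹ * ((c * D.φ tK * c⁻¹) * g) * c := by rw [hc, hsg]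
    _ = D.φ tK * (c⁻¹ * g * c) := by group)
  have he : ∀ n : ℕ, (c⁻¹ * g * c) ^ n = c⁻¹ * g ^ n * c := fun n => by
    rw [show c⁻¹ * g * c = c⁻¹ * g * c⁻¹⁻¹ by rw [inv_inv], conj_pow, inv_inv]
  have h3 : k ^ 3 = 1 := three_exp k (D.inj (by rw [map_pow, hk, he, hg, mul_one, inv_mul_cancel, map_one]))
  have h4 := congrArg D.φ h3
  rw [map_pow, hk, he, map_one] at h4
  calc g ^ 3 = c * (c⁻¹ * g ^ 3 * c) * c⁻¹ := by group
  _ = 1 := by rw [h4, mul_one, mul_inv_cancel]

include D in
/-- The order 189000 does not occur. -/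
theorem card_ne_excluded : Nat.card G ≠ 189000 := by
  classical
  intro hN
  haveI : Fact (Nat.Prime 3) := ⟨Nat.prime_three⟩
  set x := D.φ xK with hx
  set t := D.φ tK with ht
  set u := D.φ uK with hu
  set v := t * u with hv
  have tt : t * t = 1 := by rw [ht, ← map_mul, tK_sq, map_one]
  have uu : u * u = 1 := by rw [hu, ← map_mul, uK_facts.1, map_one]
  have ti : t⁻¹ = t := inv_eq_of_mul_eq_one_right tt
  have ui : u⁻¹ = u := inv_eq_of_mul_eq_one_right uu
  have tu : t * u = u * t := by rw [ht, hu, ← map_mul, ← map_mul, uK_facts.2.2.1]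
  have vv : v * v = 1 := by
    rw [hv, show t * u * (t * u) = t * (u * t) * u by group, ← tu,
      show t * (t * u) * u = (t * t) * (u * u) by group, tt, uu, one_mul]
  have vi : v⁻¹ = v := inv_eq_of_mul_eq_one_right vv
  have t1 : t ≠ 1 := fun e => tK_ne (D.inj (by rw [map_one]; exact e))
  have u1 : u ≠ 1 := fun e => uK_facts.2.1 (D.inj (by rw [map_one]; exact e))
  have v1 : v ≠ 1 := fun e => uK_facts.2.2.2.2.1 (D.inj (by rw [map_mul, map_one]; exact e))
  have tx : t * x * t = x := by rw [ht, hx, ← map_mul, ← map_mul, uK_facts.2.2.2.2.2]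
  have ux : u * x * u = x⁻¹ := by rw [hu, hx, ← map_mul, ← map_mul, uK_facts.2.2.2.1, map_inv]
  have vx : v * x * v = x⁻¹ := by
    rw [hv]; nth_rw 2 [tu]
    rw [show t * u * x * (u * t) = t * (u * x * u) * t by group, ux]
    calc t * x⁻¹ * t = (t⁻¹ * x * t⁻¹)⁻¹ := by group
    _ = x⁻¹ := by rw [ti, tx]
  have x3 : x ^ 3 = 1 := D.xpow
  obtain ⟨Q, hQp, hxQ, hQx, hQt, hQu, hmax⟩ := D.exists_invariant_three
  obtain ⟨R, hQR⟩ := hQp.exists_le_sylow
  have hR27 : Nat.card (R : Subgroup G) = 27 := by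
    obtain ⟨i, hi⟩ := IsPGroup.iff_card.mp R.2
    have h1 : Nat.card (R : Subgroup G) ∣ 189000 := hN ▸ Subgroup.card_subgroup_dvd_card _
    have h2 : (3 : ℕ) ^ 3 ∣ Nat.card (R : Subgroup G) :=
      R.pow_dvd_card_of_pow_dvd_card (by rw [hN]; norm_num)
    rw [hi] at h1 h2 ⊢
    have h3 : 3 ≤ i := (Nat.pow_dvd_pow_iff_le_right (by norm_num)).mp h2
    rcases h3.eq_or_lt with rfl | h4
    · rfl
    · exact absurd ((pow_dvd_pow 3 h4).trans h1) (by norm_num)
  have hle27 : ∀ T : Subgroup G, IsPGroup 3 T → Nat.card T ≤ 27 := fun T hT => by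
    obtain ⟨S, hS⟩ := hT.exists_le_sylow
    exact (Subgroup.card_le_of_le hS).trans
      (le_of_eq ((S.card_eq_multiplicity.trans R.card_eq_multiplicity.symm).trans hR27))
  have h27 : ∀ q ∈ (R : Subgroup G), q ^ 27 = 1 := fun q hq => by
    have := pow_card_eq_one' (x := (⟨q, hq⟩ : (R : Subgroup G)))
    rw [hR27] at this
    exact congrArg Subtype.val this
  have h27Q : ∀ q ∈ Q, q ^ 27 = 1 := fun q hq => h27 q (hQR hq)
  -- fixed points of `t`
  have fixt : ∀ q ∈ Q, t * q * t = q → q = 1 ∨ q = x ∨ q = x * x := by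
    intro q hq hqt
    obtain ⟨k, hk⟩ := D.cent q (by
      show q * t = t * q
      calc q * t = t * q * t * t := by rw [hqt]
      _ = t * q := by rw [mul_assoc, tt, mul_one])
    have hkx : k * xK = xK * k := D.inj (by rw [map_mul, map_mul, hk]; exact hQx q hq)
    have hk27 : k ^ 27 = 1 := D.inj (by rw [map_pow, hk, h27Q q hq, map_one])
    rcases (cx_long k).resolve_left fun h => h ⟨hkx, hk27⟩ with e | e | e
    · left; rw [← hk, e, map_one]
    · right; left; rw [← hk, e]
    · right; right; rw [← hk, e, map_mul]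
  have fix1 : ∀ q ∈ Q, t * q * t = q → t * q * t = q⁻¹ → q = 1 := fun q hq h h' =>
    D.eq_one_of_fixed_inverted (h27Q q hq) (h.symm.trans h')
  have xinj : ∀ a, t * a * t = a⁻¹ → a ^ 3 = 1 → a ≠ 1 → Commute x a →
      ∀ i j, ee x a i j = 1 → i = 0 ∧ j = 0 := by
    intro a hta ha ha1 hc i j h
    have P : Pair x a := ⟨x3, ha, hc⟩
    have h1 : t * x * t⁻¹ = ee x a 1 0 := by rw [ti, tx, P.one_zero]
    have h2 : t * a * t⁻¹ = ee x a 0 2 := by
      rw [ti, hta]; exact (inv_pair P).2
    have h3 := P.conj_left t h1 h2 i j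
    rw [h, mul_one, mul_inv_cancel] at h3
    have h4 : ee x a (i + (1 * i + 0 * j)) (j + (0 * i + 2 * j)) = 1 := by
      rw [← P.mul, h, ← h3, one_mul]
    have e1 : j + (0 * i + 2 * j) = 0 := (fixed_three i j).1
    rw [e1] at h4
    have hi : i = 0 := by
      unfold ee at h4
      rw [ZMod.val_zero, pow_zero, mul_one] at h4
      have : orderOf x = 3 := orderOf_eq_prime x3 D.x_ne
      have h5 := orderOf_dvd_of_pow_eq_one h4
      rw [this] at h5
      have h6 := ZMod.val_lt (i + (1 * i + 0 * j))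
      have h7 : (i + (1 * i + 0 * j)).val = 0 := by omega
      exact (fixed_three i j).2 ((ZMod.val_eq_zero _).mp h7)
    refine ⟨hi, ?_⟩
    rw [hi] at h
    unfold ee at h
    rw [ZMod.val_zero, pow_zero, one_mul] at h
    have h5 := orderOf_dvd_of_pow_eq_one h
    rw [orderOf_eq_prime ha ha1] at h5
    have h6 := ZMod.val_lt j
    exact (ZMod.val_eq_zero _).mp (by omega)
  -- the order of Q
  obtain ⟨n, hn⟩ := IsPGroup.iff_card.mp hQp
  have hn3 : n ≤ 3 := by
    by_contra h
    have h1 := hle27 Q hQp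
    rw [hn] at h1
    have : 3 ^ 4 ≤ 3 ^ n := Nat.pow_le_pow_right (by norm_num) (by omega)
    omega
  have absorb : ∀ r ∈ (R : Subgroup G), r * x = x * r → r ∈ Q ∨ 3 * Nat.card Q ≤ Nat.card Q := by
    intro r hr hrx
    left
    by_contra hrQ
    have hle : Q ⊔ zpowers r ≤ R := sup_le hQR (zpowers_le.mpr hr)
    have hT := hmax (Q ⊔ zpowers r) (R.2.to_le hle) (fun q hq => by
      have : Q ⊔ zpowers r ≤ centralizer ({x} : Set G) :=
        sup_le (fun q hq => mem_centralizer_singleton_iff.mpr (hQx q hq))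
          (zpowers_le.mpr (mem_centralizer_singleton_iff.mpr hrx))
      exact mem_centralizer_singleton_iff.mp (this hq))
    have heq : Q = Q ⊔ zpowers r := Subgroup.eq_of_le_of_card_ge le_sup_left hT
    exact hrQ (heq ▸ le_sup_right (a := Q) (mem_zpowers r))
  have absorb' : ∀ r ∈ (R : Subgroup G), r * x = x * r → r ∈ Q := fun r hr h =>
    (absorb r hr h).resolve_right (by have : 0 < Nat.card Q := Nat.card_pos; omega)
  have hn2 : 2 ≤ n := by
    by_contra h
    have hQle : Nat.card Q ≤ 3 := by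
      rw [hn]; calc 3 ^ n ≤ 3 ^ 1 := Nat.pow_le_pow_right (by norm_num) (by omega)
        _ = 3 := by norm_num
    haveI : Nontrivial (R : Subgroup G) := Finite.one_lt_card_iff_nontrivial.mp (by rw [hR27]; norm_num)
    haveI := R.2.center_nontrivial
    obtain ⟨⟨z, hzc⟩, hz1⟩ := exists_ne (1 : Subgroup.center (R : Subgroup G))
    have hzx : z.1 * x = x * z.1 :=
      (congrArg Subtype.val (Subgroup.mem_center_iff.mp hzc ⟨x, hQR hxQ⟩)).symm
    have hzQ := absorb' z.1 z.2 hzx
    have hQX : Q = zpowers x := (Subgroup.eq_of_le_of_card_ge (zpowers_le.mpr hxQ)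
      (by rw [Nat.card_zpowers, orderOf_eq_prime x3 D.x_ne]; exact hQle)).symm
    have hzgen : zpowers x ≤ centralizer ((R : Subgroup G) : Set G) := by
      have hzne : z.1 ≠ 1 := fun e => hz1 (Subtype.ext (Subtype.ext e))
      have : zpowers z.1 = zpowers x := by
        refine Subgroup.eq_of_le_of_card_ge (zpowers_le.mpr (hQX ▸ hzQ)) ?_
        rw [Nat.card_zpowers, Nat.card_zpowers, orderOf_eq_prime x3 D.x_ne]
        have hd : orderOf z.1 ∣ 3 := by
          have := Subgroup.card_dvd_of_le (zpowers_le.mpr (hQX ▸ hzQ) : zpowers z.1 ≤ zpowers x)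
          rwa [Nat.card_zpowers, Nat.card_zpowers, orderOf_eq_prime x3 D.x_ne] at this
        rcases (Nat.dvd_prime Nat.prime_three).mp hd with e | e
        · exact absurd (orderOf_eq_one_iff.mp e) hzne
        · exact e.ge
      rw [← this]
      refine zpowers_le.mpr (mem_centralizer_iff.mpr fun r hr => ?_)
      exact congrArg Subtype.val (Subgroup.mem_center_iff.mp hzc ⟨r, hr⟩)
    have hall : ∀ r ∈ (R : Subgroup G), r ∈ Q := fun r hr =>
      absorb' r hr (mem_centralizer_iff.mp (hzgen (mem_zpowers x)) r hr)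
    have := Subgroup.card_le_of_le hall
    omega
  rcases (show n = 2 ∨ n = 3 by omega) with rfl | rfl
  · -- centralizer with Sylow subgroups of order nine
    have hQ9 : Nat.card Q = 9 := by rw [hn]; norm_num
    have hQcomm : ∀ p ∈ Q, ∀ q ∈ Q, p * q = q * p := by
      letI := IsPGroup.commGroupOfCardEqPrimeSq (G := Q) (p := 3) hn
      intro p hp q hq
      exact congrArg Subtype.val (mul_comm (⟨p, hp⟩ : Q) ⟨q, hq⟩)
    obtain ⟨q, hq, hqX⟩ : ∃ q ∈ Q, q ∉ zpowers x := by
      by_contra h
      push Not at h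
      have := Subgroup.card_le_of_le (h : Q ≤ zpowers x)
      rw [hQ9, Nat.card_zpowers, orderOf_eq_prime x3 D.x_ne] at this
      omega
    set a0 := q * (t * q * t)⁻¹ with ha0
    have ha0Q : a0 ∈ Q := mul_mem hq (inv_mem (hQt q hq))
    have cinv : ∀ y, (t * y * t)⁻¹ = t * y⁻¹ * t := fun y => by
      rw [mul_inv_rev, mul_inv_rev, ti, mul_assoc]
    have cmul : ∀ y z, t * (y * z) * t = (t * y * t) * (t * z * t) := fun y z => by
      rw [show (t * y * t) * (t * z * t) = t * y * (t * t) * z * t by group, tt, mul_one]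
      group
    have cinvol : ∀ y, t * (t * y * t) * t = y := fun y => by
      rw [show t * (t * y * t) * t = (t * t) * y * (t * t) by group, tt, one_mul, mul_one]
    have ha0t : t * a0 * t = a0⁻¹ := by
      rw [ha0, cmul, ← cinv, cinvol, mul_inv_rev, inv_inv]
    have ha01 : a0 ≠ 1 := fun e => by
      rw [ha0, mul_inv_eq_one] at e
      rcases fixt q hq e.symm with h | h | h <;> apply hqX <;> rw [h]
      · exact one_mem _
      · exact mem_zpowers x
      · exact mul_mem (mem_zpowers x) (mem_zpowers x)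
    obtain ⟨a, s, haQ, ha1, hat, hs, hs1, hsa⟩ :
        ∃ a s, a ∈ Q ∧ a ≠ 1 ∧ t * a * t = a⁻¹ ∧ s * s = 1 ∧ s ≠ 1 ∧ s * a = a * s := by
      have hu' : u * a0 * u ∈ Q := hQu a0 ha0Q
      by_cases hb : a0 * (u * a0 * u) = 1
      · refine ⟨a0, v, ha0Q, ha01, ha0t, vv, v1, ?_⟩
        have e : u * a0 * u = a0⁻¹ := (inv_eq_of_mul_eq_one_right hb).symm
        have : v * a0 * v = a0 := by
          rw [hv]; nth_rw 2 [tu]
          rw [show t * u * a0 * (u * t) = t * (u * a0 * u) * t by group, e, ← cinv, ha0t, inv_inv]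
        calc v * a0 = v * a0 * v * v := by rw [mul_assoc (v * a0), vv, mul_one]
        _ = a0 * v := by rw [this]
      · refine ⟨a0 * (u * a0 * u), u, mul_mem ha0Q hu', hb, ?_, uu, u1, ?_⟩
        · have hc : t * (u * a0 * u) * t = u * a0⁻¹ * u := by
            calc t * (u * a0 * u) * t = (t * u) * a0 * (u * t) := by group
            _ = (u * t) * a0 * (t * u) := by rw [tu]
            _ = u * (t * a0 * t) * u := by group
            _ = u * a0⁻¹ * u := by rw [ha0t]
          rw [cmul, ha0t, hc, hQcomm _ (inv_mem ha0Q) _ (hQu _ (inv_mem ha0Q))]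
          calc u * a0⁻¹ * u * a0⁻¹ = u⁻¹ * a0⁻¹ * u⁻¹ * a0⁻¹ := by rw [ui]
          _ = (a0 * (u * a0 * u))⁻¹ := by group
        · rw [show u * (a0 * (u * a0 * u)) = (u * a0 * u) * (a0 * u) by group,
            ← mul_assoc (u * a0 * u), hQcomm _ hu' _ ha0Q]
    have a3 : a ^ 3 = 1 := D.cube_of_fixed hs hs1 hsa (h27Q a haQ)
    have P : Pair x a := ⟨x3, a3, hQcomm x hxQ a haQ⟩
    have hinj := xinj a hat a3 ha1 P.comm
    obtain ⟨-, hgen⟩ := card_pair P hxQ haQ hinj
    replace hgen := hgen hQ9
    obtain ⟨c, hc⟩ := isConj_iff.mp (D.conj_x hs hs1 hsa a3 ha1)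
    obtain ⟨r, hrR, hrQ⟩ : ∃ r ∈ (R : Subgroup G), r ∉ Q := by
      by_contra h
      push Not at h
      have := Subgroup.card_le_of_le (h : (R : Subgroup G) ≤ Q)
      omega
    obtain ⟨hnorm, hr3⟩ := nine_in_twentyseven hQR hQ9 hR27 hrR
    obtain ⟨i, j, hij⟩ := hgen _ (hnorm x hxQ)
    obtain ⟨k, l, hkl⟩ := hgen _ (hnorm a haQ)
    have euniq : ∀ i j i' j', ee x a i j = ee x a i' j' → i = i' ∧ j = j' := by
      intro i j i' j' e
      have : ee x a (i + -i') (j + -j') = 1 := by rw [← P.mul, ← P.inv, e, mul_inv_cancel]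
      obtain ⟨h1, h2⟩ := hinj _ _ this
      exact ⟨by linear_combination h1, by linear_combination h2⟩
    have step := P.conj_left r hij hkl
    have cube : ∀ y ∈ Q, r * (r * (r * y * r⁻¹) * r⁻¹) * r⁻¹ = y := by
      intro y hy
      have := hQcomm _ hr3 y hy
      calc r * (r * (r * y * r⁻¹) * r⁻¹) * r⁻¹ = (r ^ 3 * y) * (r ^ 3)⁻¹ := conj_cube r y
      _ = y := by rw [this, mul_inv_cancel_right]
    have e1 := cube x hxQ
    rw [hij, step, step] at e1
    obtain ⟨x1, x2⟩ := euniq _ _ 1 0 (e1.trans P.one_zero.symm)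
    have e2 := cube a haQ
    rw [hkl, step, step] at e2
    obtain ⟨a1', a2'⟩ := euniq _ _ 0 1 (e2.trans P.zero_one.symm)
    have hfix : ∀ y w, (r * y * r⁻¹ = w) → y = w → r * y = y * r := fun y w h h' => by
      subst h'; exact mul_inv_eq_iff_eq_mul.mp h
    rcases unipotent_cases i j k l (by linear_combination x1) (by linear_combination x2)
      (by linear_combination a1') (by linear_combination a2') with hj | hk | hM | hM
    · subst hj
      have : i = 1 := cube_one_three i (by linear_combination x1)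
      rw [this, P.one_zero] at hij
      exact hrQ (absorb' r hrR (hfix x x hij rfl))
    · subst hk
      have : l = 1 := cube_one_three l (by linear_combination a2')
      rw [this, P.zero_one] at hkl
      have hra := hfix a a hkl rfl
      have hle : Q ⊔ zpowers r ≤ R := sup_le hQR (zpowers_le.mpr hrR)
      set T := (Q ⊔ zpowers r).map (MulAut.conj c⁻¹).toMonoidHom with hT
      have hTc := hmax T ((R.2.to_le hle).map _) (fun y hy => by
        obtain ⟨w, hw, rfl⟩ := hy
        have hwa : w * a = a * w := by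
          have : Q ⊔ zpowers r ≤ centralizer ({a} : Set G) :=
            sup_le (fun q hq => mem_centralizer_singleton_iff.mpr (hQcomm q hq a haQ))
              (zpowers_le.mpr (mem_centralizer_singleton_iff.mpr hra))
          exact mem_centralizer_singleton_iff.mp (this hw)
        show c⁻¹ * w * c⁻¹⁻¹ * x = x * (c⁻¹ * w * c⁻¹⁻¹)
        calc c⁻¹ * w * c⁻¹⁻¹ * x = c⁻¹ * (w * (c * x * c⁻¹)) * c := by group
        _ = c⁻¹ * ((c * x * c⁻¹) * w) * c := by rw [hc, hwa]
        _ = x * (c⁻¹ * w * c⁻¹⁻¹) := by group)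
      rw [hT, Subgroup.card_map_of_injective (f := (MulAut.conj c⁻¹).toMonoidHom)
        (MulAut.conj c⁻¹).injective] at hTc
      have heq : Q = Q ⊔ zpowers r := Subgroup.eq_of_le_of_card_ge le_sup_left hTc
      exact hrQ (heq ▸ le_sup_right (a := Q) (mem_zpowers r))
    all_goals
      obtain ⟨r', j', k', hjk, hr'x, hr'a⟩ : ∃ r' j' k', j' * k' = 2 ∧ r' * x * r'⁻¹ = ee x a 2 j' ∧
          r' * a * r'⁻¹ = ee x a k' 0 := by
        obtain ⟨q1, q2, q3⟩ := hM
        subst q1 q2
        first
        | exact ⟨r, j, k, q3, hij, hkl⟩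
        | refine ⟨r * r, 2 * j, 2 * k, ?_, ?_, ?_⟩
          · linear_combination q3 + j * k * zero_of_three
          · rw [mul_inv_rev, show r * r * x * (r⁻¹ * r⁻¹) = r * (r * x * r⁻¹) * r⁻¹ by group, hij,
              step]
            congr 1
            · linear_combination q3
            · ring
          · rw [mul_inv_rev, show r * r * a * (r⁻¹ * r⁻¹) = r * (r * a * r⁻¹) * r⁻¹ by group, hkl,
              step]
            congr 1
            · ring
            · linear_combination q3 + 2 * zero_of_three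
      set g := r' * t with hg
      have gx : g * x * g⁻¹ = ee x a 2 j' := by
        rw [hg, mul_inv_rev, ti, show r' * t * x * (t * r'⁻¹) = r' * (t * x * t) * r'⁻¹ by group, tx,
          hr'x]
      have ga : g * a * g⁻¹ = ee x a (-k') 0 := by
        rw [hg, mul_inv_rev, ti, show r' * t * a * (t * r'⁻¹) = r' * (t * a * t) * r'⁻¹ by group, hat,
          ← conj_inv, hr'a, P.inv, neg_zero]
      have gs := P.conj_left g gx ga
      have g2x : g ^ 2 * x * (g ^ 2)⁻¹ = ee x a 2 (2 * j') := by
        rw [pow_two, mul_inv_rev, show g * g * x * (g⁻¹ * g⁻¹) = g * (g * x * g⁻¹) * g⁻¹ by group,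
          gx, gs]
        congr 1
        · linear_combination (cases_three j' k' hjk).1.1
        · ring
      have h3' := zero_of_three
      have g2a : g ^ 2 * a * (g ^ 2)⁻¹ = ee x a k' 1 := by
        rw [pow_two, mul_inv_rev, show g * g * a * (g⁻¹ * g⁻¹) = g * (g * a * g⁻¹) * g⁻¹ by group,
          ga, gs]
        congr 1
        · linear_combination -k' * h3'
        · linear_combination -hjk - h3'
      have g2s := P.conj_left (g ^ 2) g2x g2a
      have g4x : g ^ 4 * x * (g ^ 4)⁻¹ = ee x a 2 0 := by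
        rw [show g ^ 4 * x * (g ^ 4)⁻¹ = g ^ 2 * (g ^ 2 * x * (g ^ 2)⁻¹) * (g ^ 2)⁻¹ by group,
          g2x, g2s]
        congr 1
        · linear_combination 2 * hjk + 2 * h3'
        · linear_combination 2 * j' * h3'
      have g8 : g ^ 8 * x = x * g ^ 8 := by
        refine mul_inv_eq_iff_eq_mul.mp ?_
        rw [show g ^ 8 * x * (g ^ 8)⁻¹ = g ^ 4 * (g ^ 4 * x * (g ^ 4)⁻¹) * (g ^ 4)⁻¹ by group, g4x,
          P.two_zero, show g ^ 4 * (x * x) * (g ^ 4)⁻¹ = (g ^ 4 * x * (g ^ 4)⁻¹) * (g ^ 4 * x * (g ^ 4)⁻¹)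
            by group, g4x, P.two_zero, (cube_rules x3).2.1]
      have h2 := D.no_four g8
      rw [← mul_inv_eq_iff_eq_mul, g2x] at h2
      exact (cases_three j' k' hjk).2 (by
        rw [mul_comm]; exact (euniq _ _ 1 0 (h2.trans P.one_zero.symm)).2)
  · -- centralizer containing a Sylow subgroup
    have hQ27 : Nat.card Q = 27 := by rw [hn]; norm_num
    have hQeq : Q = (R : Subgroup G) := Subgroup.eq_of_le_of_card_ge hQR (by rw [hQ27, hR27])
    haveI hQn : IsPGroup 3 Q := hQp
    -- the quotient by `x`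
    set X := (zpowers x).subgroupOf Q with hX
    haveI hXn : X.Normal := ⟨fun y hy z => by
      rw [hX, mem_subgroupOf] at hy ⊢
      obtain ⟨e, he⟩ := hy
      have hcz : (z : G) * y * (z : G)⁻¹ = y := by
        rw [← he]
        show (z : G) * x ^ e * (z : G)⁻¹ = x ^ e
        rw [((show Commute (z : G) x from hQx z z.2).zpow_right e).eq, mul_inv_cancel_right]
      show (z : G) * y * (z : G)⁻¹ ∈ zpowers x
      rw [hcz, ← he]
      exact ⟨e, rfl⟩⟩
    have hXcard : Nat.card (Q ⧸ X) = 3 ^ 2 := by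
      have h := X.card_eq_card_quotient_mul_card_subgroup
      rw [hQ27, hX, Nat.card_congr (subgroupOfEquivOfLe (zpowers_le.mpr hxQ)).toEquiv,
        Nat.card_zpowers, orderOf_eq_prime x3 D.x_ne] at h
      rw [show (3 : ℕ) ^ 2 = 9 by norm_num]; linarith
    have hcommX : ∀ p ∈ Q, ∀ q ∈ Q, p * q * p⁻¹ * q⁻¹ ∈ zpowers x := by
      letI := IsPGroup.commGroupOfCardEqPrimeSq (G := Q ⧸ X) (p := 3) hXcard
      intro p hp q hq
      have h : ((⟨p, hp⟩ * ⟨q, hq⟩ * ⟨p, hp⟩⁻¹ * ⟨q, hq⟩⁻¹ : Q) : Q ⧸ X) = 1 := by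
        simp only [QuotientGroup.mk_mul, QuotientGroup.mk_inv]
        rw [mul_comm (QuotientGroup.mk (⟨p, hp⟩ : Q) : Q ⧸ X), mul_inv_cancel_right, mul_inv_cancel]
      have h' := (QuotientGroup.eq_one_iff _).mp h
      exact h'
    have hX3 : ∀ y ∈ zpowers x, y = 1 ∨ y = x ∨ y = x * x := by
      intro y hy
      have hyQ : y ∈ Q := (zpowers_le.mpr hxQ) hy
      obtain ⟨e, rfl⟩ := hy
      refine fixt _ hyQ ?_
      show t * x ^ e * t = x ^ e
      nth_rw 2 [← ti]
      rw [← conj_zpow, ti, tx]
    have xinv : ∀ s : G, s * x * s = x⁻¹ → ∀ y ∈ zpowers x, s * y * s = y → y = 1 := by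
      intro s hs y hy hfix
      rcases hX3 y hy with rfl | rfl | rfl
      · rfl
      · rw [hs] at hfix
        exact D.eq_one_of_fixed_inverted (h27Q _ hxQ) hfix.symm
      · exfalso
        have hi : x * x = x⁻¹ := (cube_rules x3).2.2.symm
        rw [hi] at hfix
        have h1 : (s⁻¹ * x * s⁻¹) = x := by
          calc s⁻¹ * x * s⁻¹ = (s * x⁻¹ * s)⁻¹ := by group
          _ = x := by rw [hfix, inv_inv]
        have h2 : s * x * s = s * (s⁻¹ * x * s⁻¹) * s := by rw [h1]
        rw [hs, show s * (s⁻¹ * x * s⁻¹) * s = x by group] at h2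
        exact D.x_ne (D.eq_one_of_fixed_inverted (h27Q _ hxQ) h2.symm)
    -- the fixed elements of the involutions inverting `x`
    have fixed_le : ∀ s : G, s * s = 1 → s ≠ 1 → s * x * s = x⁻¹ → ∀ a ∈ Q, a ≠ 1 → s * a * s = a →
        ∀ q ∈ Q, s * q * s = q → q = 1 ∨ q = a ∨ q = a * a := by
      intro s hs hs1 hsx a ha ha1 hfa q hq hfq
      have si : s⁻¹ = s := inv_eq_of_mul_eq_one_right hs
      have hcomm : q * a * q⁻¹ * a⁻¹ = 1 := by
        refine xinv s hsx _ (hcommX q hq a ha) ?_
        rw [show s * (q * a * q⁻¹ * a⁻¹) * s =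
          (s * q * s⁻¹) * (s * a * s⁻¹) * (s * q * s⁻¹)⁻¹ * (s * a * s⁻¹)⁻¹ * (s * s) by group,
          si, hfq, hfa, hs, mul_one]
      have ca : s * a = a * s := by
        calc s * a = s * a * s * s := by rw [mul_assoc (s * a), hs, mul_one]
        _ = a * s := by rw [hfa]
      have cq : s * q = q * s := by
        calc s * q = s * q * s * s := by rw [mul_assoc (s * q), hs, mul_one]
        _ = q * s := by rw [hfq]
      have hqa : q * a = a * q := by
        rwa [mul_inv_eq_one, mul_inv_eq_iff_eq_mul] at hcomm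
      exact D.three_of_commute hs hs1 ca (D.cube_of_fixed hs hs1 ca (h27Q a ha)) ha1 cq hqa
        (D.cube_of_fixed hs hs1 cq (h27Q q hq))
    -- lifting fixed classes
    have lift : ∀ s : G, s * s = 1 → s * x * s = x⁻¹ → ∀ q ∈ Q, q⁻¹ * (s * q * s) ∈ zpowers x →
        q ∉ zpowers x → ∃ a ∈ Q, a ≠ 1 ∧ s * a * s = a ∧ q⁻¹ * a ∈ zpowers x := by
      intro s hs hsx q hq hmem hqX
      have si : s⁻¹ = s := inv_eq_of_mul_eq_one_right hs
      set y := q⁻¹ * (s * q * s) with hy
      have hyQ : y ∈ Q := (zpowers_le.mpr hxQ) hmem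
      have hyx : s * y * s = y⁻¹ := by
        obtain ⟨e, he⟩ := hmem
        change x ^ e = y at he
        rw [← he]
        nth_rw 2 [← si]
        rw [← conj_zpow, si, hsx, inv_zpow]
      refine ⟨q * (y * y), mul_mem hq (mul_mem hyQ hyQ), ?_, ?_, ?_⟩
      · intro e
        apply hqX
        rw [eq_inv_of_mul_eq_one_left e]
        exact inv_mem (mul_mem hmem hmem)
      · have hy3 : y * y * y = 1 := by
          rcases hX3 y hmem with e | e | e <;> rw [e]
          · group
          · exact (cube_rules x3).1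
          · rw [(cube_rules x3).2.1, ← mul_assoc]; exact (cube_rules x3).1
        have hy3' : y⁻¹ = y * y := inv_eq_of_mul_eq_one_right (by rw [← mul_assoc]; exact hy3)
        rw [show s * (q * (y * y)) * s = (s * q * s⁻¹) * ((s * y * s⁻¹) * (s * y * s⁻¹)) * (s * s) by group,
          si, hyx, hs, mul_one, show s * q * s = q * y by rw [hy, mul_inv_cancel_left],
          show q * y * (y⁻¹ * y⁻¹) = q * y⁻¹ by group, hy3']
      · rw [inv_mul_cancel_left]
        exact mul_mem hmem hmem
    have tinv : ∀ q ∈ Q, q * (t * q * t) ∈ zpowers x := by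
      intro q hq
      set w := q * (t * q * t) with hw
      have hwQ : w ∈ Q := mul_mem hq (hQt q hq)
      obtain ⟨e, he⟩ := hcommX (t * q * t) (hQt q hq) q hq
      have hy : w⁻¹ * (t * w * t) ∈ zpowers x := by
        have h1 : t * w * t = (t * q * t) * q := by
          rw [hw, show t * (q * (t * q * t)) * t = (t * q * t) * q * (t * t) by group, tt, mul_one]
        rw [h1, hw, mul_inv_rev]
        have hcm := hcommX (q * (t * q * t))⁻¹ (inv_mem (mul_mem hq (hQt q hq))) q hq
        have hc2 := hcommX (t * q * t)⁻¹ (inv_mem (hQt q hq)) q⁻¹ (inv_mem hq)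
        rw [inv_inv, inv_inv] at hc2
        rw [← mul_assoc]
        exact hc2
      set y := w⁻¹ * (t * w * t) with hydef
      have hwy : t * w * t = w * y := by rw [hydef, mul_inv_cancel_left]
      have hyfix : t * y * t = y := by
        obtain ⟨f, hf⟩ := hy
        rw [← hf]
        show t * x ^ f * t = x ^ f
        nth_rw 2 [← ti]
        rw [← conj_zpow, ti, tx]
      have hyy : y * y = 1 := by
        have : w = w * (y * y) := by
          calc w = t * (t * w * t) * t := by
                rw [show t * (t * w * t) * t = (t * t) * w * (t * t) by group, tt, one_mul, mul_one]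
          _ = (t * w * t⁻¹) * (t * y * t⁻¹) * (t * t) := by rw [hwy]; group
          _ = w * (y * y) := by rw [ti, hwy, hyfix, tt, mul_one, mul_assoc]
        exact mul_left_cancel (this.symm.trans (mul_one w).symm)
      have hy1 : y = 1 := D.eq_one_of_fixed_inverted (h27Q y ((zpowers_le.mpr hxQ) hy))
        (eq_inv_of_mul_eq_one_left hyy)
      rw [hy1, mul_one] at hwy
      rcases fixt w hwQ hwy with e | e | e <;> rw [e]
      · exact one_mem _
      · exact mem_zpowers x
      · exact mul_mem (mem_zpowers x) (mem_zpowers x)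
    letI := IsPGroup.commGroupOfCardEqPrimeSq (G := Q ⧸ X) (p := 3) hXcard
    have memX : ∀ {p : Q}, (p : Q ⧸ X) = 1 ↔ (p : G) ∈ zpowers x := fun {p} => QuotientGroup.eq_one_iff p
    have sq_notmem : ∀ q ∈ Q, q * q ∈ zpowers x → q ∈ zpowers x := by
      intro q hq h
      have : q = (q * q) ^ 14 := by
        rw [← pow_two, ← pow_mul, pow_succ q 27, h27Q q hq, one_mul]
      rw [this]
      exact pow_mem h 14
    -- classes fixed by `u` or by `v`
    have wprop : ∀ q ∈ Q, (q * (u * q * u))⁻¹ * (u * (q * (u * q * u)) * u) ∈ zpowers x ∧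
        (q * (u * q * u)⁻¹)⁻¹ * (v * (q * (u * q * u)⁻¹) * v) ∈ zpowers x := by
      intro q hq
      refine ⟨?_, ?_⟩
      · rw [show u * (q * (u * q * u)) * u = (u * q * u) * q * (u * u) by group, uu, mul_one,
          mul_inv_rev, ← mul_assoc]
        have h := hcommX (u * q * u)⁻¹ (inv_mem (hQu q hq)) q⁻¹ (inv_mem hq)
        rwa [inv_inv, inv_inv] at h
      · set p := u * q * u with hp
        have hpQ : p ∈ Q := hQu q hq
        have e1 : v * (q * p⁻¹) * v = (t * p * t) * (t * q * t)⁻¹ := by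
          rw [hv, hp]; nth_rw 2 [tu]
          rw [mul_inv_rev, mul_inv_rev, mul_inv_rev, mul_inv_rev, ti, ui]
          calc t * u * (q * (u * (q⁻¹ * u))) * (u * t)
              = t * (u * q * u) * q⁻¹ * (u * u) * t := by group
          _ = t * (u * q * u) * (t * t) * q⁻¹ * t := by rw [uu, tt]; group
          _ = t * (u * q * u) * t * (t * (q⁻¹ * t)) := by group
        rw [e1]
        have h1 := tinv p hpQ
        have h2 := tinv q hq
        let p' : Q := ⟨p, hpQ⟩
        let q' : Q := ⟨q, hq⟩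
        let tp : Q := ⟨t * p * t, hQt p hpQ⟩
        let tq : Q := ⟨t * q * t, hQt q hq⟩
        have hp' : (p' : Q ⧸ X) * tp = 1 := by rw [← QuotientGroup.mk_mul, memX]; exact h1
        have hq' : (q' : Q ⧸ X) * tq = 1 := by rw [← QuotientGroup.mk_mul, memX]; exact h2
        have : (((q' * p'⁻¹)⁻¹ * (tp * tq⁻¹) : Q) : Q ⧸ X) = 1 := by
          simp only [QuotientGroup.mk_mul, QuotientGroup.mk_inv]
          rw [eq_inv_of_mul_eq_one_right hp', eq_inv_of_mul_eq_one_right hq', inv_inv, mul_inv_rev,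
            inv_inv]
          calc (p' : Q ⧸ X) * (q' : Q ⧸ X)⁻¹ * ((p' : Q ⧸ X)⁻¹ * q')
              = (p' : Q ⧸ X) * (p' : Q ⧸ X)⁻¹ * ((q' : Q ⧸ X)⁻¹ * q') := by
                rw [mul_mul_mul_comm]
          _ = 1 := by rw [mul_inv_cancel, inv_mul_cancel, one_mul]
        exact memX.mp this
    have wsplit : ∀ q ∈ Q, q ∉ zpowers x →
        q * (u * q * u) ∉ zpowers x ∨ q * (u * q * u)⁻¹ ∉ zpowers x := by
      intro q hq hqX
      by_contra h
      push Not at h
      apply hqX
      refine sq_notmem q hq ?_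
      let q' : Q := ⟨q, hq⟩
      let p' : Q := ⟨u * q * u, hQu q hq⟩
      have h1 : (q' : Q ⧸ X) * p' = 1 := by rw [← QuotientGroup.mk_mul, memX]; exact h.1
      have h2 : (q' : Q ⧸ X) * (p' : Q ⧸ X)⁻¹ = 1 := by
        rw [← QuotientGroup.mk_inv, ← QuotientGroup.mk_mul, memX]; exact h.2
      have : ((q' * q' : Q) : Q ⧸ X) = 1 := by
        rw [QuotientGroup.mk_mul]
        nth_rw 2 [mul_inv_eq_one.mp h2]
        exact h1
      exact memX.mp this
    obtain ⟨q0, hq0, hq0X⟩ : ∃ q ∈ Q, q ∉ zpowers x := by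
      by_contra h
      push Not at h
      have := Subgroup.card_le_of_le (h : Q ≤ zpowers x)
      rw [hQ27, Nat.card_zpowers, orderOf_eq_prime x3 D.x_ne] at this
      omega
    -- a fixed element for each of the two involutions
    have other : ∀ s s' : G, s * s = 1 → s ≠ 1 → s' * s' = 1 → s * x * s = x⁻¹ →
        s' * x * s' = x⁻¹ → (∀ q ∈ Q, q ∉ zpowers x →
          (∃ w ∈ Q, w ∉ zpowers x ∧ w⁻¹ * (s' * w * s') ∈ zpowers x) ∨ q⁻¹ * (s * q * s) ∈ zpowers x) →
        ∀ a ∈ Q, a ≠ 1 → s * a * s = a → ∃ b ∈ Q, b ≠ 1 ∧ s' * b * s' = b := by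
      intro s s' hs hs1 hs' hsx hsx' hdich a ha ha1 hsa
      by_contra hno
      push Not at hno
      have hall : ∀ q ∈ Q, ∃ y ∈ zpowers x, q * y = 1 ∨ q * y = a ∨ q * y = a * a := by
        intro q hq
        by_cases hqX : q ∈ zpowers x
        · exact ⟨q⁻¹, inv_mem hqX, Or.inl (mul_inv_cancel q)⟩
        rcases hdich q hq hqX with ⟨w, hw, hwX, hwf⟩ | hqf
        · obtain ⟨b, hb, hb1, hbf, -⟩ := lift s' hs' hsx' w hw hwf hwX
          exact absurd hbf (hno b hb hb1)
        · obtain ⟨b, hb, hb1, hbf, hbq⟩ := lift s hs hsx q hq hqf hqX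
          refine ⟨q⁻¹ * b, hbq, ?_⟩
          rw [mul_inv_cancel_left]
          exact fixed_le s hs hs1 hsx a ha ha1 hsa b hb hbf
      have hsub : (Q : Set G) ⊆ ((fun p : G × G => p.1 * p.2) ''
          ((({1, a, a * a} : Finset G) ×ˢ ({1, x⁻¹, (x * x)⁻¹} : Finset G) : Finset (G × G)) : Set (G × G))) := by
        intro q hq
        obtain ⟨y, hy, hcase⟩ := hall q hq
        refine ⟨(q * y, y⁻¹), ?_, by simp⟩
        simp only [Finset.coe_product, Set.mem_prod, Finset.coe_insert, Finset.coe_singleton,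
          Set.mem_insert_iff, Set.mem_singleton_iff]
        refine ⟨hcase, ?_⟩
        rcases hX3 y hy with rfl | rfl | rfl
        · simp
        · simp
        · simp
      have hcard := Set.ncard_le_ncard hsub
      rw [show (Q : Set G).ncard = 27 from (Nat.card_coe_set_eq _).symm.trans hQ27] at hcard
      have h9 : ((({1, a, a * a} : Finset G) ×ˢ ({1, x⁻¹, (x * x)⁻¹} : Finset G)).card) ≤ 9 := by
        rw [Finset.card_product]
        exact Nat.mul_le_mul (Finset.card_le_three) (Finset.card_le_three)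
      have h10 := (Set.ncard_image_le (f := fun p : G × G => p.1 * p.2)
        (Finset.finite_toSet (({1, a, a * a} : Finset G) ×ˢ ({1, x⁻¹, (x * x)⁻¹} : Finset G))))
      rw [Set.ncard_coe_finset] at h10
      omega
    obtain ⟨a, haQ, ha1, hua, b, hbQ, hb1, hvb⟩ :
        ∃ a, a ∈ Q ∧ a ≠ 1 ∧ u * a * u = a ∧ ∃ b, b ∈ Q ∧ b ≠ 1 ∧ v * b * v = b := by
      have du : ∀ q ∈ Q, q ∉ zpowers x →
          (∃ w ∈ Q, w ∉ zpowers x ∧ w⁻¹ * (v * w * v) ∈ zpowers x) ∨ q⁻¹ * (u * q * u) ∈ zpowers x := by
        intro q hq hqX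
        by_cases h : q * (u * q * u)⁻¹ ∈ zpowers x
        · right
          have h' := inv_mem h
          rw [mul_inv_rev, inv_inv] at h'
          have hc := hcommX q⁻¹ (inv_mem hq) (u * q * u) (hQu q hq)
          rw [inv_inv] at hc
          have := mul_mem hc h'
          rwa [show q⁻¹ * (u * q * u) * q * (u * q * u)⁻¹ * (u * q * u * q⁻¹) = q⁻¹ * (u * q * u) by group]
            at this
        · exact Or.inl ⟨_, mul_mem hq (inv_mem (hQu q hq)), h, (wprop q hq).2⟩
      have dv : ∀ q ∈ Q, q ∉ zpowers x →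
          (∃ w ∈ Q, w ∉ zpowers x ∧ w⁻¹ * (u * w * u) ∈ zpowers x) ∨ q⁻¹ * (v * q * v) ∈ zpowers x := by
        intro q hq hqX
        by_cases h : q * (u * q * u) ∈ zpowers x
        · right
          have hv' : v * q * v = t * (u * q * u) * t := by
            rw [hv]; nth_rw 2 [tu]; group
          have hh : ((⟨q, hq⟩⁻¹ * ⟨v * q * v, hv' ▸ hQt _ (hQu q hq)⟩ : Q) : Q ⧸ X) = 1 := by
            let q' : Q := ⟨q, hq⟩
            let p' : Q := ⟨u * q * u, hQu q hq⟩
            let tp : Q := ⟨t * (u * q * u) * t, hQt _ (hQu q hq)⟩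
            have h1 : (q' : Q ⧸ X) * p' = 1 := by rw [← QuotientGroup.mk_mul, memX]; exact h
            have h2 : (p' : Q ⧸ X) * tp = 1 := by
              rw [← QuotientGroup.mk_mul, memX]; exact tinv _ (hQu q hq)
            rw [QuotientGroup.mk_mul, QuotientGroup.mk_inv,
              show (⟨v * q * v, hv' ▸ hQt _ (hQu q hq)⟩ : Q) = tp from Subtype.ext hv']
            rw [eq_inv_of_mul_eq_one_right h2, eq_inv_of_mul_eq_one_right h1, inv_inv]
            exact inv_mul_cancel _
          exact memX.mp hh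
        · exact Or.inl ⟨_, mul_mem hq (hQu q hq), h, (wprop q hq).1⟩
      rcases wsplit q0 hq0 hq0X with h | h
      · obtain ⟨a, ha, ha1, hfa, -⟩ := lift u uu ux _ (mul_mem hq0 (hQu q0 hq0)) (wprop q0 hq0).1 h
        obtain ⟨b, hb, hb1, hfb⟩ := other u v uu u1 vv ux vx du a ha ha1 hfa
        exact ⟨a, ha, ha1, hfa, b, hb, hb1, hfb⟩
      · obtain ⟨b, hb, hb1, hfb, -⟩ := lift v vv vx _ (mul_mem hq0 (inv_mem (hQu q0 hq0))) (wprop q0 hq0).2 h
        obtain ⟨a, ha, ha1, hfa⟩ := other v u vv v1 uu vx ux dv b hb hb1 hfb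
        exact ⟨a, ha, ha1, hfa, b, hb, hb1, hfb⟩
    -- action of `t`
    have tfix : ∀ s : G, s * s = 1 → s * x * s = x⁻¹ → s * t = t * s → ∀ a ∈ Q, s * a * s = a →
        t * a * t = a⁻¹ := by
      intro s hs hsx hst a ha hfa
      have si : s⁻¹ = s := inv_eq_of_mul_eq_one_right hs
      have h : a * (t * a * t) = 1 := by
        refine xinv s hsx _ (tinv a ha) ?_
        calc s * (a * (t * a * t)) * s = (s * a * s⁻¹) * ((s * t) * a * (t * s)) * 1 := by group
        _ = (s * a * s) * ((t * s) * a * (s * t)) := by rw [si, hst, mul_one]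
        _ = a * (t * (s * a * s) * t) := by nth_rw 1 [hfa]; group
        _ = a * (t * a * t) := by rw [hfa]
      exact (inv_eq_of_mul_eq_one_right h).symm
    have hat : t * a * t = a⁻¹ := tfix u uu ux tu.symm a haQ hua
    have hbt : t * b * t = b⁻¹ := tfix v vv vx (by
      rw [hv, mul_assoc, ← tu, ← mul_assoc]) b hbQ hvb
    have hva : v * a * v = a⁻¹ := by
      rw [hv]; nth_rw 2 [tu]
      rw [show t * u * a * (u * t) = t * (u * a * u) * t by group, hua, hat]
    have hub : u * b * u = b⁻¹ := by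
      have e : u = t * v := by rw [hv, ← mul_assoc, tt, one_mul]
      have e' : u = v * t := by
        rw [hv, mul_assoc, ← tu, ← mul_assoc, tt, one_mul]
      nth_rw 1 [e]
      rw [e', show t * v * b * (v * t) = t * (v * b * v) * t by group, hvb, hbt]
    have cu : u * a = a * u := by
      calc u * a = u * a * u * u := by rw [mul_assoc (u * a), uu, mul_one]
      _ = a * u := by rw [hua]
    have cv : v * b = b * v := by
      calc v * b = v * b * v * v := by rw [mul_assoc (v * b), vv, mul_one]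
      _ = b * v := by rw [hvb]
    have a3 : a ^ 3 = 1 := D.cube_of_fixed uu u1 cu (h27Q a haQ)
    have b3 : b ^ 3 = 1 := D.cube_of_fixed vv v1 cv (h27Q b hbQ)
    have P : Pair x a := ⟨x3, a3, (show Commute a x from hQx a haQ).symm⟩
    have hinj := xinj a hat a3 ha1 P.comm
    have euniq : ∀ i j i' j', ee x a i j = ee x a i' j' → i = i' ∧ j = j' := by
      intro i j i' j' e
      have : ee x a (i + -i') (j + -j') = 1 := by rw [← P.mul, ← P.inv, e, mul_inv_cancel]
      obtain ⟨h1, h2⟩ := hinj _ _ this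
      exact ⟨by linear_combination h1, by linear_combination h2⟩
    -- the subgroup generated by `x` and `a`
    let E : Subgroup G :=
      { carrier := {g | ∃ i j, g = ee x a i j}
        one_mem' := ⟨0, 0, P.zero_zero.symm⟩
        mul_mem' := by
          rintro _ _ ⟨i, j, rfl⟩ ⟨k, l, rfl⟩
          exact ⟨_, _, P.mul i j k l⟩
        inv_mem' := by
          rintro _ ⟨i, j, rfl⟩
          exact ⟨_, _, P.inv i j⟩ }
    have hxE : x ∈ E := ⟨1, 0, P.one_zero.symm⟩
    have haE : a ∈ E := ⟨0, 1, P.zero_one.symm⟩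
    have hE9 : Nat.card E = 9 := by
      refine (Nat.card_eq_of_bijective (fun p : ZMod 3 × ZMod 3 => (⟨ee x a p.1 p.2, p.1, p.2, rfl⟩ : E))
        ⟨fun p q h => ?_, ?_⟩).symm.trans (by simp)
      · obtain ⟨h1, h2⟩ := euniq _ _ _ _ (congrArg Subtype.val h)
        exact Prod.ext h1 h2
      · rintro ⟨_, i, j, rfl⟩
        exact ⟨(i, j), rfl⟩
    have hEQ : E ≤ Q := by
      rintro _ ⟨i, j, rfl⟩
      exact mul_mem (pow_mem hxQ _) (pow_mem haQ _)
    have hEQR : E ≤ (R : Subgroup G) := hEQ.trans hQR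
    have conjv : ∀ i j, v * ee x a i j * v = ee x a (-i) (-j) := by
      intro i j
      have h1 : v * x * v⁻¹ = ee x a 2 0 := by
        rw [vi, vx]; exact (inv_pair P).1
      have h2 : v * a * v⁻¹ = ee x a 0 2 := by
        rw [vi, hva]; exact (inv_pair P).2
      have h3 := P.conj_left v h1 h2 i j
      rw [vi] at h3
      rw [h3, (inverse_three i j).1, (inverse_three i j).2.1]
    have hbE : b ∉ E := by
      rintro ⟨i, j, hb⟩
      have h := conjv i j
      rw [← hb, hvb, hb] at h
      obtain ⟨h1, h2⟩ := euniq _ _ _ _ h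
      apply hb1
      rw [hb, eq_neg_three i h1, eq_neg_three j h2, P.zero_zero]
    have bnorm := nine_in_twentyseven hEQR hE9 hR27 (hQR hbQ)
    obtain ⟨m, l, hml⟩ := bnorm.1 a haE
    have hbx : b * x * b⁻¹ = ee x a 1 0 := by
      rw [hQx b hbQ, mul_inv_cancel_right, P.one_zero]
    have bs := P.conj_left b hbx hml
    have hl : l * l = 1 ∧ (l = 2 → m = 0) := by
      have hu1 : u * ee x a m l * u = ee x a (-m) l := by
        have h1 : u * x * u⁻¹ = ee x a 2 0 := by
          rw [ui, ux]; exact (inv_pair P).1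
        have h2 : u * a * u⁻¹ = ee x a 0 1 := by rw [ui, hua, P.zero_one]
        have h3 := P.conj_left u h1 h2 m l
        rw [ui] at h3
        rw [h3, (inverse_three m l).1, (inverse_three m l).2.2]
      have h3 : b⁻¹ * a * b = ee x a (-m) l := by
        rw [← hu1, ← hml]
        calc b⁻¹ * a * b = b⁻¹ * a * b⁻¹⁻¹ := by rw [inv_inv]
        _ = (u * b * u⁻¹) * (u * a * u⁻¹) * (u * b * u⁻¹)⁻¹ := by rw [ui, hub, hua]
        _ = u * (b * a * b⁻¹) * u⁻¹ := by group
        _ = u * (b * a * b⁻¹) * u := by rw [ui]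
      have h4 : a = b * ee x a (-m) l * b⁻¹ := by rw [← h3]; group
      rw [bs] at h4
      obtain ⟨h5, h6⟩ := euniq _ _ _ _ (P.zero_one.trans h4)
      refine ⟨by linear_combination -h6, fun hl2 => ?_⟩
      subst hl2
      linear_combination -h5
    have hl1 : l = 1 := by
      rcases sq_one_three l hl.1 with e | e
      · exact e
      · exfalso
        have hm := hl.2 e
        subst e hm
        have h3 : b * (b * (b * a * b⁻¹) * b⁻¹) * b⁻¹ = a := by
          calc b * (b * (b * a * b⁻¹) * b⁻¹) * b⁻¹ = b ^ 3 * a * (b ^ 3)⁻¹ := conj_cube b a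
          _ = a := by rw [b3]; group
        rw [hml, bs, bs] at h3
        exact absurd (euniq _ _ _ _ (h3.trans P.zero_one.symm)).2 closed_three.1
    subst hl1
    obtain ⟨c, hc⟩ := isConj_iff.mp (D.conj_x uu u1 cu a3 ha1)
    by_cases hm : m = 0
    · -- elementary abelian Sylow subgroup
      subst hm
      rw [P.zero_one] at hml
      have hba : b * a = a * b := mul_inv_eq_iff_eq_mul.mp hml
      have hQab : ∀ p ∈ Q, ∀ q ∈ Q, p * q = q * p := by
        have hEb : E ⊔ zpowers b = Q := by
          refine Subgroup.eq_of_le_of_card_ge (sup_le hEQ (zpowers_le.mpr hbQ)) ?_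
          have h1 : Nat.card E < Nat.card (E ⊔ zpowers b : Subgroup G) := by
            refine lt_of_le_of_ne (Subgroup.card_le_of_le le_sup_left) fun e => hbE ?_
            exact (Subgroup.eq_of_le_of_card_ge le_sup_left e.ge).ge (le_sup_right (a := E) (mem_zpowers b))
          obtain ⟨i, hi⟩ := IsPGroup.iff_card.mp (hQp.to_le (sup_le hEQ (zpowers_le.mpr hbQ)))
          rw [hi, hE9] at h1
          rw [hQ27, hi]
          have : 2 < i := by
            by_contra h
            have : 3 ^ i ≤ 3 ^ 2 := Nat.pow_le_pow_right (by norm_num) (by omega)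
            omega
          calc (27 : ℕ) = 3 ^ 3 := by norm_num
          _ ≤ 3 ^ i := Nat.pow_le_pow_right (by norm_num) this
        have hb' : ∀ g ∈ E, b * g = g * b := by
          rintro _ ⟨i, j, rfl⟩
          exact (((show Commute b x from hQx b hbQ).pow_right _).mul_right
            ((show Commute b a from hba).pow_right _)).eq
        have hEE : ∀ g ∈ E, ∀ h ∈ E, g * h = h * g := by
          rintro _ ⟨i, j, rfl⟩ _ ⟨k, l, rfl⟩
          rw [P.mul, P.mul, add_comm i, add_comm j]
        have hle : E ⊔ zpowers b ≤ centralizer ((E ⊔ zpowers b : Subgroup G) : Set G) := by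
          have h1 : E ⊔ zpowers b ≤ centralizer (E : Set G) :=
            sup_le (fun g hg => mem_centralizer_iff.mpr fun h hh => hEE h hh g hg)
              (zpowers_le.mpr (mem_centralizer_iff.mpr fun h hh => (hb' h hh).symm))
          have h2 : E ⊔ zpowers b ≤ centralizer (zpowers b : Set G) :=
            sup_le (fun g hg => mem_centralizer_iff.mpr fun h ⟨e, he⟩ => by
                rw [← he]; exact (Commute.zpow_left (show Commute b g from hb' g hg) e).eq)
              (zpowers_le.mpr (mem_centralizer_iff.mpr fun h ⟨e, he⟩ => by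
                rw [← he]; exact (Commute.zpow_self b e).eq))
          intro g hg
          rw [mem_centralizer_iff]
          intro h hh
          have : E ⊔ zpowers b ≤ centralizer ({g} : Set G) :=
            sup_le (fun k hk => mem_centralizer_singleton_iff.mpr (mem_centralizer_iff.mp (h1 hg) k hk))
              (fun k hk => mem_centralizer_singleton_iff.mpr (mem_centralizer_iff.mp (h2 hg) k hk))
          exact mem_centralizer_singleton_iff.mp (this hh)
        rw [hEb] at hle
        exact fun p hp q hq => mem_centralizer_iff.mp (hle hq) p hp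
      haveI hRc : IsMulCommutative (R : Subgroup G) :=
        ⟨⟨fun p q => Subtype.ext (hQab p (hQeq ▸ p.2) q (hQeq ▸ q.2))⟩⟩
      have haR : a ∈ (R : Subgroup G) := hQR haQ
      obtain ⟨n, hn', hne⟩ := Sylow.conj_eq_normalizer_conj_of_mem R x c⁻¹ (hQR hxQ)
        (by rw [inv_inv, hc]; exact haR)
      rw [inv_inv, hc] at hne
      set h := n⁻¹ with hh
      have hhR : h ∈ normalizer ((R : Subgroup G) : Set G) := inv_mem hn'
      have hhx : h * x * h⁻¹ = a := by rw [hh, inv_inv]; exact hne.symm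
      -- squares in the normalizer centralize the Sylow subgroup
      have key : ∀ g ∈ normalizer ((R : Subgroup G) : Set G), ∀ q ∈ (R : Subgroup G),
          g ^ 2 * q * (g ^ 2)⁻¹ = q := by
        intro g hg q hq
        set ρ := (R : Subgroup G).normalizerMonoidHom
        set g' : normalizer ((R : Subgroup G) : Set G) := ⟨g, hg⟩
        have ho : (g ^ 2) ^ 23625 = 1 := by
          have h1 : (g ^ 23625) ^ 2 ^ 3 = 1 := by
            rw [← pow_mul, show 23625 * 2 ^ 3 = Nat.card G by rw [hN]; norm_num, pow_card_eq_one']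
          have h2 := D.exp_two _ 3 h1
          rw [← pow_mul, mul_comm, pow_mul, pow_two, h2]
        have h875 : g ^ (2 * 875) ∈ (R : Subgroup G) := by
          set k := g ^ (2 * 875) with hk
          have hkp : IsPGroup 3 (zpowers k) := by
            have hk1 : k ^ 3 ^ 3 = 1 := by
              rw [hk, ← pow_mul, show 2 * 875 * 3 ^ 3 = 2 * 23625 by norm_num, pow_mul, ho]
            obtain ⟨i, -, hi⟩ := (Nat.dvd_prime_pow Nat.prime_three).mp (orderOf_dvd_of_pow_eq_one hk1)
            exact IsPGroup.of_card (n := i) (by rw [Nat.card_zpowers, hi])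
          have hnk : zpowers k ≤ normalizer ((R : Subgroup G) : Set G) :=
            zpowers_le.mpr (pow_mem hg _)
          have := R.3 (IsPGroup.to_sup_of_normal_left' R.2 hkp hnk) le_sup_left
          exact this ▸ le_sup_right (a := (R : Subgroup G)) (mem_zpowers k)
        haveI : Fact (Nat.Prime 5) := ⟨by norm_num⟩
        haveI : Fact (Nat.Prime 7) := ⟨by norm_num⟩
        have hρ : ρ g' ^ (2 * 875) = 1 := by
          rw [← map_pow, ← MonoidHom.mem_ker, Subgroup.normalizerMonoidHom_ker, mem_subgroupOf]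
          exact (R : Subgroup G).le_centralizer h875
        have hcard : Nat.card ↥(R : Subgroup G) = 27 := hR27
        have h125 : ρ g' ^ (2 * 125) = 1 :=
          aut_trivial hcard (p := 7) (by decide) (m := 1)
            (by rw [← pow_mul, show 2 * 125 * 7 ^ 1 = 2 * 875 by norm_num, hρ])
        have h2 : ρ g' ^ 2 = 1 :=
          aut_trivial hcard (p := 5) (by decide) (m := 3)
            (by rw [← pow_mul, show 2 * 5 ^ 3 = 2 * 125 by norm_num, h125])
        have h3 := MulEquiv.congr_fun (show ρ (g' ^ 2) = 1 by rw [map_pow, h2]) ⟨q, hq⟩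
        exact congrArg Subtype.val h3
      have htR : t ∈ normalizer ((R : Subgroup G) : Set G) := by
        rw [mem_normalizer_iff]
        intro q
        rw [← hQeq, ti]
        refine ⟨hQt q, fun hq => ?_⟩
        have := hQt _ hq
        rwa [show t * (t * q * t) * t = (t * t) * q * (t * t) by group, tt, one_mul, mul_one] at this
      have hha : h * a * h⁻¹ = x := by
        have := key h hhR x (hQR hxQ)
        rw [pow_two, mul_inv_rev, show h * h * x * (h⁻¹ * h⁻¹) = h * (h * x * h⁻¹) * h⁻¹ by group,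
          hhx] at this
        exact this
      have h2 := key (h * t) (mul_mem hhR htR) x (hQR hxQ)
      rw [pow_two, mul_inv_rev, mul_inv_rev, ti,
        show h * t * (h * t) * x * ((t * h⁻¹) * (t * h⁻¹)) = h * (t * (h * (t * x * t) * h⁻¹) * t) * h⁻¹
          by group, tx, hhx, hat, ← conj_inv, hha] at h2
      exact D.x_ne (D.eq_one_of_fixed_inverted (h27Q x hxQ) h2.symm)
    · -- extraspecial Sylow subgroup
      set T0 := Q.map (MulAut.conj c).toMonoidHom with hT0
      have hT0a : T0 ≤ centralizer ({a} : Set G) := by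
        rintro _ ⟨q, hq, rfl⟩
        rw [mem_centralizer_singleton_iff]
        show c * q * c⁻¹ * a = a * (c * q * c⁻¹)
        rw [← hc, show c * q * c⁻¹ * (c * x * c⁻¹) = c * (q * x) * c⁻¹ by group, hQx q hq]
        group
      have hEa : E ≤ centralizer ({a} : Set G) := by
        rintro _ ⟨i, j, rfl⟩
        rw [mem_centralizer_singleton_iff]
        exact ((P.comm.pow_left i.val).mul_left ((Commute.refl a).pow_left j.val)).eq
      obtain ⟨S, hS⟩ := ((hQp.to_le hEQ).comap_of_injective _
        (centralizer ({a} : Set G)).subtype_injective).exists_le_sylow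
      set T := (S : Subgroup (centralizer ({a} : Set G))).map (centralizer ({a} : Set G)).subtype with hT
      have hTp : IsPGroup 3 T := S.2.map _
      have hET : E ≤ T := fun g hg => ⟨⟨g, hEa hg⟩, hS hg, rfl⟩
      have hT27 : Nat.card T = 27 := by
        refine le_antisymm (hle27 T hTp) ?_
        rw [hT, Subgroup.card_map_of_injective (Subgroup.subtype_injective _)]
        refine Nat.le_of_dvd Nat.card_pos ?_
        refine S.pow_dvd_card_of_pow_dvd_card (n := 3) ?_
        have := Subgroup.card_dvd_of_le hT0a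
        rwa [hT0, Subgroup.card_map_of_injective (f := (MulAut.conj c).toMonoidHom)
          (MulAut.conj c).injective, hQ27] at this
      have hTa : ∀ r ∈ T, r * a = a * r := by
        rintro _ ⟨⟨r, hr⟩, -, rfl⟩
        exact mem_centralizer_singleton_iff.mp hr
      -- the centre of Q
      have zQ : ∀ q ∈ Q, (∀ p ∈ Q, p * q = q * p) → q ∈ zpowers x := by
        intro q hq hcen
        have hsup : E ⊔ zpowers q ≤ Q := sup_le hEQ (zpowers_le.mpr hq)
        have hqE : q ∈ E := by
          by_contra hqE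
          have hlt : Nat.card E < Nat.card (E ⊔ zpowers q : Subgroup G) := by
            refine lt_of_le_of_ne (Subgroup.card_le_of_le le_sup_left) fun e => hqE ?_
            exact (Subgroup.eq_of_le_of_card_ge le_sup_left e.ge).ge
              (le_sup_right (a := E) (mem_zpowers q))
          obtain ⟨i, hi⟩ := IsPGroup.iff_card.mp (hQp.to_le hsup)
          rw [hi, hE9] at hlt
          have hi3 : 2 < i := by
            by_contra h
            have : 3 ^ i ≤ 3 ^ 2 := Nat.pow_le_pow_right (by norm_num) (by omega)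
            omega
          have heq : (E ⊔ zpowers q : Subgroup G) = Q := by
            refine Subgroup.eq_of_le_of_card_ge hsup ?_
            rw [hQ27, hi]
            calc (27 : ℕ) = 3 ^ 3 := by norm_num
            _ ≤ 3 ^ i := Nat.pow_le_pow_right (by norm_num) hi3
          have hcom : E ⊔ zpowers q ≤ centralizer ({a} : Set G) :=
            sup_le hEa (zpowers_le.mpr (mem_centralizer_singleton_iff.mpr (hcen a haQ).symm))
          rw [heq] at hcom
          have : b * a * b⁻¹ = a := by
            rw [mem_centralizer_singleton_iff.mp (hcom hbQ), mul_inv_cancel_right]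
          rw [hml] at this
          exact hm (euniq _ _ _ _ (this.trans P.zero_one.symm)).1
        obtain ⟨i, j, rfl⟩ := hqE
        have h := bs i j
        rw [hcen b hbQ, mul_inv_cancel_right] at h
        have hj : j = 0 := by
          have := (euniq _ _ _ _ h).1
          have h' : m * j = 0 := by linear_combination -this
          exact (mul_eq_zero.mp h').resolve_left hm
        subst hj
        unfold ee
        rw [ZMod.val_zero, pow_zero, mul_one]
        exact pow_mem (mem_zpowers x) _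
      obtain ⟨r, hrT, hrx⟩ : ∃ r ∈ T, r * x ≠ x * r := by
        by_contra h
        push Not at h
        obtain ⟨S', hS'⟩ := hTp.exists_le_sylow
        have hS'T : (S' : Subgroup G) = T := (Subgroup.eq_of_le_of_card_ge hS' (by
          rw [hT27, S'.card_eq_multiplicity, ← R.card_eq_multiplicity, hR27])).symm
        obtain ⟨d, hd⟩ := MulAction.exists_smul_eq G S' R
        have hmap : ∀ g ∈ T, d * g * d⁻¹ ∈ Q := by
          intro g hg
          rw [hQeq, ← hd, Sylow.coe_subgroup_smul]
          exact Subgroup.smul_mem_pointwise_smul g (MulAut.conj d) _ (hS'T.ge hg)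
        have hmap' : ∀ p ∈ Q, d⁻¹ * p * d ∈ T := by
          intro p hp
          rw [hQeq, ← hd, Sylow.coe_subgroup_smul, Subgroup.mem_pointwise_smul_iff_inv_smul_mem] at hp
          rw [hS'T] at hp
          simpa [MulAut.smul_def, ← map_inv] using hp
        have hcentral : ∀ g ∈ E, d * g * d⁻¹ ∈ zpowers x := by
          intro g hg
          refine zQ _ (hmap g (hET hg)) fun p hp => ?_
          have hcom : (d⁻¹ * p * d) * g = g * (d⁻¹ * p * d) := by
            have hgT : T ≤ centralizer ({g} : Set G) := by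
              intro r hr
              obtain ⟨i, j, rfl⟩ := hg
              exact mem_centralizer_singleton_iff.mpr (((show Commute r x from h r hr).pow_right _).mul_right
                ((show Commute r a from hTa r hr).pow_right _)).eq
            exact mem_centralizer_singleton_iff.mp (hgT (hmap' p hp))
          calc p * (d * g * d⁻¹) = d * ((d⁻¹ * p * d) * g) * d⁻¹ := by group
          _ = d * (g * (d⁻¹ * p * d)) * d⁻¹ := by rw [hcom]
          _ = (d * g * d⁻¹) * p := by group
        have hle : E.map (MulAut.conj d).toMonoidHom ≤ zpowers x := by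
          rintro _ ⟨g, hg, rfl⟩
          exact hcentral g hg
        have := Subgroup.card_le_of_le hle
        rw [Subgroup.card_map_of_injective (f := (MulAut.conj d).toMonoidHom) (MulAut.conj d).injective,
          hE9, Nat.card_zpowers, orderOf_eq_prime x3 D.x_ne] at this
        omega
      obtain ⟨rnorm, r3⟩ := nine_in_twentyseven hET hE9 hT27 hrT
      obtain ⟨i, l', hil⟩ := rnorm x hxE
      have hra : r * a * r⁻¹ = ee x a 0 1 := by
        rw [hTa r hrT, mul_inv_cancel_right, P.zero_one]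
      have rs := P.conj_left r hil hra
      have hi1 : i = 1 := by
        refine cube_one_three i ?_
        have hr3c : r * (r * (r * x * r⁻¹) * r⁻¹) * r⁻¹ = x := by
          obtain ⟨i', j', he⟩ := r3
          have hc3 : r ^ 3 * x = x * r ^ 3 := by
            rw [he]
            exact (((Commute.refl x).pow_left i'.val).mul_left (P.comm.symm.pow_left j'.val)).eq
          calc r * (r * (r * x * r⁻¹) * r⁻¹) * r⁻¹ = (r ^ 3 * x) * (r ^ 3)⁻¹ := conj_cube r x
          _ = x := by rw [hc3, mul_inv_cancel_right]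
        rw [hil, rs, rs] at hr3c
        linear_combination (euniq _ _ _ _ (hr3c.trans P.one_zero.symm)).1
      subst hi1
      have hl' : l' ≠ 0 := fun e => by
        rw [e, P.one_zero] at hil
        exact hrx (mul_inv_eq_iff_eq_mul.mp hil)
      obtain ⟨r', k, hk, hr'x, hr'a⟩ : ∃ r' k, k * m = 2 ∧ r' * x * r'⁻¹ = ee x a 1 k ∧
          r' * a * r'⁻¹ = ee x a 0 1 := by
        rcases scale_three m l' hm hl' with h | h
        · exact ⟨r, l', h, hil, hra⟩
        · refine ⟨r * r, 2 * l', h, ?_, ?_⟩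
          · rw [mul_inv_rev, show r * r * x * (r⁻¹ * r⁻¹) = r * (r * x * r⁻¹) * r⁻¹ by group, hil, rs]
            congr 1 <;> ring
          · rw [mul_inv_rev, show r * r * a * (r⁻¹ * r⁻¹) = r * (r * a * r⁻¹) * r⁻¹ by group, hra, rs]
            congr 1 <;> ring
      have r's := P.conj_left r' hr'x hr'a
      set g := b * r' * b with hg
      have h3' := zero_of_three
      have gx : g * x * g⁻¹ = ee x a 0 k := by
        rw [hg, show b * r' * b * x * (b * r' * b)⁻¹ = b * (r' * (b * x * b⁻¹) * r'⁻¹) * b⁻¹ by group,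
          hbx, r's, bs]
        congr 1
        · linear_combination hk + h3'
        · ring
      have ga : g * a * g⁻¹ = ee x a m 0 := by
        rw [hg, show b * r' * b * a * (b * r' * b)⁻¹ = b * (r' * (b * a * b⁻¹) * r'⁻¹) * b⁻¹ by group,
          hml, r's, bs]
        congr 1
        · linear_combination m * hk + m * h3'
        · linear_combination hk + h3'
      have gs := P.conj_left g gx ga
      have g2x : g ^ 2 * x * (g ^ 2)⁻¹ = ee x a 2 0 := by
        rw [pow_two, mul_inv_rev, show g * g * x * (g⁻¹ * g⁻¹) = g * (g * x * g⁻¹) * g⁻¹ by group, gx, gs]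
        congr 1
        · linear_combination hk
        · ring
      have g4x : g ^ 4 * x * (g ^ 4)⁻¹ = x := by
        rw [show g ^ 4 * x * (g ^ 4)⁻¹ = g ^ 2 * (g ^ 2 * x * (g ^ 2)⁻¹) * (g ^ 2)⁻¹ by group, g2x,
          P.two_zero, show g ^ 2 * (x * x) * (g ^ 2)⁻¹ = (g ^ 2 * x * (g ^ 2)⁻¹) * (g ^ 2 * x * (g ^ 2)⁻¹)
            by group, g2x, P.two_zero, (cube_rules x3).2.1]
      have g8 : g ^ 8 * x = x * g ^ 8 := by
        refine mul_inv_eq_iff_eq_mul.mp ?_
        rw [show g ^ 8 * x * (g ^ 8)⁻¹ = g ^ 4 * (g ^ 4 * x * (g ^ 4)⁻¹) * (g ^ 4)⁻¹ by group, g4x, g4x]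
      have h2 := D.no_four g8
      rw [← mul_inv_eq_iff_eq_mul, g2x] at h2
      exact absurd (euniq _ _ _ _ (h2.trans P.one_zero.symm)).1 closed_three.2

end Data

end CfsgLib.JankoOrder
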