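import Mathlib

/-!
Facts about the group `2 × A₅`, verified by evaluation.
-/

set_option autoImplicit false

namespace CfsgLib.JankoOrder

/-- the group `2 × A₅` -/
abbrev Cen : Type := Multiplicative (ZMod 2) × alternatingGroup (Fin 5)

/-- the central involution -/
def tK : Cen := (Multiplicative.ofAdd 1, 1)

/-- an element of order three -/
def xK : Cen := (1, ⟨Equiv.swap 0 1 * Equiv.swap 1 2, Equiv.Perm.mem_alternatingGroup.mpr (by decide +kernel)⟩)

/-- an element of order five -/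
def yK : Cen := (1, ⟨finRotate 5, Equiv.Perm.mem_alternatingGroup.mpr (by decide +kernel)⟩)

/-- an involution outside the centre -/
def vK : Cen :=
  (1, ⟨Equiv.swap 0 1 * Equiv.swap 2 3, Equiv.Perm.mem_alternatingGroup.mpr (by decide +kernel)⟩)

theorem tK_sq : tK * tK = 1 := by decide +kernel

theorem tK_ne : tK ≠ 1 := by decide +kernel

theorem tK_fst : ¬ tK.1 = 1 := by decide +kernel

theorem xK_facts : xK * xK * xK = 1 ∧ xK ≠ 1 ∧ tK * xK = xK * tK := by decide +kernel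

theorem yK_facts : yK ^ 5 = 1 ∧ yK ≠ 1 ∧ tK * yK = yK * tK := by decide +kernel

theorem central_eq : ∀ k : Cen, (∀ l : Cen, k * l = l * k) → k = 1 ∨ k = tK := by decide +kernel

theorem two_elements : ∀ k : Cen, k ^ 8 = 1 → k * k = 1 := by decide +kernel

theorem even_involutions_conj : ∀ a : Cen, ¬ (a.1 = 1 ∧ a * a = 1 ∧ a ≠ 1) ∨
    ∃ g : Cen, g * a * g⁻¹ = vK := by decide +kernel

theorem vK_facts : vK * vK = 1 ∧ vK ≠ 1 ∧ vK.1 = 1 ∧ tK * vK = vK * tK := by decide +kernel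

theorem card_tK : Fintype.card {k : Cen // k * tK = tK * k} = 120 := by decide +kernel

theorem card_tx : Fintype.card {k : Cen // k * (tK * xK) = tK * xK * k} = 6 := by decide +kernel

theorem card_ty : Fintype.card {k : Cen // k * (tK * yK) = tK * yK * k} = 10 := by decide +kernel

theorem card_ty2 : Fintype.card {k : Cen // k * (tK * yK ^ 2) = tK * yK ^ 2 * k} = 10 := by
  decide +kernel

theorem pow_tx : (tK * xK) ^ 15 = tK ∧ (tK * xK) ^ 7 = tK * xK := by decide +kernel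

theorem pow_ty : (tK * yK) ^ 15 = tK ∧ (tK * yK) ^ 7 = tK * yK ^ 2 := by decide +kernel

theorem pow_ty2 : (tK * yK ^ 2) ^ 15 = tK ∧ (tK * yK ^ 2) ^ 7 = tK * yK ^ 4 := by decide +kernel

theorem real_tx : ∃ g : Cen, g * (tK * xK) * g⁻¹ = (tK * xK)⁻¹ := by decide +kernel

theorem real_ty : ∃ g : Cen, g * (tK * yK) * g⁻¹ = (tK * yK)⁻¹ := by decide +kernel

theorem real_ty2 : ∃ g : Cen, g * (tK * yK ^ 2) * g⁻¹ = (tK * yK ^ 2)⁻¹ := by decide +kernel

theorem conj_ty4 : ∃ g : Cen, g * (tK * yK) * g⁻¹ = tK * yK ^ 4 := by decide +kernel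

theorem not_conj_t_tx : ¬ ∃ g : Cen, g * tK * g⁻¹ = tK * xK := by decide +kernel

theorem not_conj_t_ty : ¬ ∃ g : Cen, g * tK * g⁻¹ = tK * yK := by decide +kernel

theorem not_conj_t_ty2 : ¬ ∃ g : Cen, g * tK * g⁻¹ = tK * yK ^ 2 := by decide +kernel

theorem not_conj_tx_ty : ¬ ∃ g : Cen, g * (tK * xK) * g⁻¹ = tK * yK := by decide +kernel

theorem not_conj_tx_ty2 : ¬ ∃ g : Cen, g * (tK * xK) * g⁻¹ = tK * yK ^ 2 := by decide +kernel

theorem not_conj_ty_ty2 : ¬ ∃ g : Cen, g * (tK * yK) * g⁻¹ = tK * yK ^ 2 := by decide +kernel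

theorem inv_t : Fintype.card {r : Cen // r * r = 1 ∧ r ≠ 1 ∧ r ≠ tK ∧ r * tK * r = tK⁻¹} = 30 := by
  decide +kernel

theorem inv_tx : Fintype.card {r : Cen // r * r = 1 ∧ r ≠ 1 ∧ r ≠ tK * xK ∧
    r * (tK * xK) * r = (tK * xK)⁻¹} = 6 := by decide +kernel

theorem inv_ty : Fintype.card {r : Cen // r * r = 1 ∧ r ≠ 1 ∧ r ≠ tK * yK ∧
    r * (tK * yK) * r = (tK * yK)⁻¹} = 10 := by decide +kernel

theorem inv_ty2 : Fintype.card {r : Cen // r * r = 1 ∧ r ≠ 1 ∧ r ≠ tK * yK ^ 2 ∧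
    r * (tK * yK ^ 2) * r = (tK * yK ^ 2)⁻¹} = 10 := by decide +kernel

end CfsgLib.JankoOrder
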