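import Cfsg.Agent.JankoOrder.Bounds

/-!
The combinatorics of the exceptional characters for an involution centralizer `2 × A₅`.
-/

set_option autoImplicit false

namespace CfsgLib.JankoOrder

universe u

/-- The numerical content of the character table on the special classes. -/
structure Table (ι : Type u) [Fintype ι] where
  N : ℕ
  one : ι
  a : ι → ℤ
  b : ι → ℤ
  c : ι → ℤ
  f : ι → ℤ
  d : ι → ℤ
  d_pos : ∀ i, 0 < d i
  one_vals : a one = 1 ∧ b one = 1 ∧ c one = 1 ∧ f one = 0 ∧ d one = 1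
  aa : ∑ i, a i * a i = 4
  bb : ∑ i, b i * b i = 4
  cc : ∑ i, c i * c i = 4
  ff : ∑ i, f i * f i = 2
  ab : ∑ i, a i * b i = 2
  ac : ∑ i, a i * c i = 2
  bc : ∑ i, b i * c i = 2
  af : ∑ i, a i * f i = 0
  bf : ∑ i, b i * f i = 0
  cf : ∑ i, c i * f i = 0
  ad : ∑ i, a i * d i = 0
  bd : ∑ i, b i * d i = 0
  cd : ∑ i, c i * d i = 0
  fd : ∑ i, f i * d i = 0
  ef : ∑ i, (3 * a i + 3 * b i - 5 * c i + 4 * f i : ℚ) ^ 2 * f i / d i = 0
  ea : (N : ℚ) * ∑ i, (3 * a i + 3 * b i - 5 * c i + 4 * f i : ℚ) ^ 2 * a i / d i = 144000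
  ec : (N : ℚ) * ∑ i, (3 * a i + 3 * b i - 5 * c i + 4 * f i : ℚ) ^ 2 * c i / d i = 86400
  cong : ∀ i, (8 : ℤ) ∣ d i - (3 * a i + 3 * b i - 5 * c i + 4 * f i)
  squares : ∑ i, d i * d i ≤ N
  dvd : 120 ∣ N
  galois : ∀ i, ∃ j, a j = b i ∧ b j = a i ∧ c j = c i ∧ d j = d i

/-- A function of norm four taking the value one at the base point. -/
structure IsVec {ι : Type u} [Fintype ι] (one : ι) (d m : ι → ℤ) : Prop where
  norm : ∑ i, m i * m i = 4
  base : m one = 1
  ortho : ∑ i, m i * d i = 0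

variable {ι : Type u} [Fintype ι]

open Classical in
/-- The constituents of a vector apart from the base point. -/
noncomputable def supp (one : ι) (m : ι → ℤ) : Finset ι :=
  Finset.univ.filter fun i => i ≠ one ∧ m i ≠ 0

theorem mem_supp {one : ι} {m : ι → ℤ} {i : ι} : i ∈ supp one m ↔ i ≠ one ∧ m i ≠ 0 := by
  simp [supp]

theorem sum_eq {one : ι} (m g : ι → ℤ) :
    ∑ i, m i * g i = m one * g one + ∑ i ∈ supp one m, m i * g i := by
  classical
  rw [← Finset.add_sum_erase _ _ (Finset.mem_univ one)]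
  congr 1
  symm
  refine Finset.sum_subset (fun i hi => Finset.mem_erase.mpr ⟨(mem_supp.mp hi).1, Finset.mem_univ i⟩)
    fun i hi hn => ?_
  have : m i = 0 := by
    by_contra h
    exact hn (mem_supp.mpr ⟨(Finset.mem_erase.mp hi).1, h⟩)
  simp [this]

theorem sum_eq_rat {one : ι} (m : ι → ℤ) (g : ι → ℚ) :
    ∑ i, g i * m i = g one * m one + ∑ i ∈ supp one m, g i * m i := by
  classical
  rw [← Finset.add_sum_erase _ _ (Finset.mem_univ one)]
  congr 1
  symm
  refine Finset.sum_subset (fun i hi => Finset.mem_erase.mpr ⟨(mem_supp.mp hi).1, Finset.mem_univ i⟩)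
    fun i hi hn => ?_
  have : m i = 0 := by
    by_contra h
    exact hn (mem_supp.mpr ⟨(Finset.mem_erase.mp hi).1, h⟩)
  simp [this]

namespace IsVec

variable {one : ι} {d m n : ι → ℤ}

theorem le_one (h : IsVec one d m) (i : ι) : m i = 0 ∨ m i = 1 ∨ m i = -1 := by
  classical
  by_contra hne
  simp only [not_or] at hne
  have h2 : 4 ≤ m i * m i := by
    rcases lt_or_ge (m i) 0 with h' | h'
    · nlinarith [show m i ≤ -2 by omega]
    · nlinarith [show 2 ≤ m i by omega]
  have hi : i ≠ one := fun e => hne.2.1 (by rw [e, h.base])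
  have hle : ∑ j ∈ ({one, i} : Finset ι), m j * m j ≤ ∑ j, m j * m j :=
    Finset.sum_le_sum_of_subset_of_nonneg (Finset.subset_univ _) fun j _ _ => mul_self_nonneg _
  rw [Finset.sum_pair (Ne.symm hi), h.base, h.norm] at hle
  omega

theorem sq_eq_one (h : IsVec one d m) {i : ι} (hi : i ∈ supp one m) : m i * m i = 1 := by
  rcases h.le_one i with h' | h' | h'
  · exact absurd h' (mem_supp.mp hi).2
  · rw [h']; norm_num
  · rw [h']; norm_num

theorem card_supp (h : IsVec one d m) : (supp one m).card = 3 := by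
  have h1 := sum_eq (one := one) m m
  rw [h.norm, h.base, Finset.sum_congr rfl fun i hi => h.sq_eq_one hi] at h1
  simp only [Finset.sum_const, nsmul_eq_mul, mul_one] at h1
  omega

theorem common [DecidableEq ι] (h : IsVec one d m) (h' : IsVec one d n) (hd : ∀ i, 0 < d i)
    (hmn : ∑ i, m i * n i = 2) :
    ∃ z, supp one m ∩ supp one n = {z} ∧ m z = n z := by
  have h1 : ∑ i ∈ supp one m ∩ supp one n, m i * n i = 1 := by
    have h2 := sum_eq (one := one) m n
    rw [hmn, h.base, h'.base] at h2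
    rw [Finset.sum_subset Finset.inter_subset_left]
    · omega
    · intro i hi hn
      have hn0 : n i = 0 := by
        by_contra hne
        exact hn (Finset.mem_inter.mpr ⟨hi, mem_supp.mpr ⟨(mem_supp.mp hi).1, hne⟩⟩)
      simp [hn0]
  have hpm : ∀ i ∈ supp one m ∩ supp one n, m i * n i = 1 ∨ m i * n i = -1 := by
    intro i hi
    obtain ⟨hi1, hi2⟩ := Finset.mem_inter.mp hi
    rcases h.le_one i with e | e | e <;> rcases h'.le_one i with e' | e' | e' <;>
      first
      | exact absurd e (mem_supp.mp hi1).2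
      | exact absurd e' (mem_supp.mp hi2).2
      | simp [e, e']
  have hle : (supp one m ∩ supp one n).card ≤ 3 :=
    h.card_supp ▸ Finset.card_le_card Finset.inter_subset_left
  rcases hc : (supp one m ∩ supp one n).card with _ | _ | _ | _ | k
  · rw [Finset.card_eq_zero.mp hc] at h1
    simp at h1
  · obtain ⟨z, hz⟩ := Finset.card_eq_one.mp hc
    refine ⟨z, hz, ?_⟩
    rw [hz, Finset.sum_singleton] at h1
    rcases h.le_one z with e | e | e <;> rw [e] at h1 ⊢ <;> omega
  · obtain ⟨x, y, hxy, hz⟩ := Finset.card_eq_two.mp hc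
    have ex := hpm x (by rw [hz]; simp)
    have ey := hpm y (by rw [hz]; simp)
    rw [hz, Finset.sum_pair hxy] at h1
    omega
  · exfalso
    have e1 : supp one m ∩ supp one n = supp one m :=
      Finset.eq_of_subset_of_card_le Finset.inter_subset_left (by rw [h.card_supp, hc])
    have e2 : supp one m ∩ supp one n = supp one n :=
      Finset.eq_of_subset_of_card_le Finset.inter_subset_right (by rw [h'.card_supp, hc])
    obtain ⟨x, y, z, hxy, hxz, hyz, hz⟩ := Finset.card_eq_three.mp hc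
    have hd' : ∑ i ∈ supp one m, m i * d i = ∑ i ∈ supp one n, n i * d i := by
      have k1 := sum_eq (one := one) m d
      have k2 := sum_eq (one := one) n d
      rw [h.ortho, h.base] at k1
      rw [h'.ortho, h'.base] at k2
      omega
    rw [show supp one m = {x, y, z} from e1.symm.trans hz,
      show supp one n = {x, y, z} from e2.symm.trans hz] at hd'
    rw [hz] at h1
    rw [Finset.sum_insert (by simp [hxy, hxz]), Finset.sum_pair hyz] at h1
    rw [Finset.sum_insert (by simp [hxy, hxz]), Finset.sum_pair hyz,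
      Finset.sum_insert (by simp [hxy, hxz]), Finset.sum_pair hyz] at hd'
    have mx := hpm x (by rw [hz]; simp)
    have my := hpm y (by rw [hz]; simp)
    have mz := hpm z (by rw [hz]; simp)
    have dx := hd x
    have dy := hd y
    have dz := hd z
    rcases h.le_one x with ex | ex | ex <;> rw [ex] at h1 hd' mx <;>
      rcases h.le_one y with ey | ey | ey <;> rw [ey] at h1 hd' my <;>
        rcases h.le_one z with ez | ez | ez <;> rw [ez] at h1 hd' mz <;>
          rcases h'.le_one x with fx | fx | fx <;> rw [fx] at h1 hd' mx <;>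
            rcases h'.le_one y with fy | fy | fy <;> rw [fy] at h1 hd' my <;>
              rcases h'.le_one z with fz | fz | fz <;> rw [fz] at h1 hd' mz <;> omega
  · omega

end IsVec

namespace Table

variable (T : Table ι)

theorem vecA : IsVec T.one T.d T.a := ⟨T.aa, T.one_vals.1, T.ad⟩

theorem vecB : IsVec T.one T.d T.b := ⟨T.bb, T.one_vals.2.1, T.bd⟩

theorem vecC : IsVec T.one T.d T.c := ⟨T.cc, T.one_vals.2.2.1, T.cd⟩

theorem eq_zero_of_not_mem {m : ι → ℤ} {i : ι} (hi : i ≠ T.one) (h : i ∉ supp T.one m) : m i = 0 := by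
  by_contra h'
  exact h (mem_supp.mpr ⟨hi, h'⟩)

/-- The pair of constituents of the norm two function avoids the other constituents. -/
theorem f_disjoint {i : ι} (hi : T.f i ≠ 0) : T.a i = 0 ∧ T.b i = 0 ∧ T.c i = 0 := by
  classical
  set Z := Finset.univ.filter fun j => T.f j ≠ 0 with hZ
  have hsum : ∀ g : ι → ℤ, ∑ j, g j * T.f j = ∑ j ∈ Z, g j * T.f j := fun g => by
    symm
    refine Finset.sum_subset (Finset.subset_univ _) fun j _ hj => ?_
    simp only [hZ, Finset.mem_filter, Finset.mem_univ, true_and, not_not] at hj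
    simp [hj]
  have hpos : ∀ j ∈ Z, 1 ≤ T.f j * T.f j := fun j hj => by
    have := mul_self_pos.mpr (Finset.mem_filter.mp hj).2
    omega
  have hn : ∑ j ∈ Z, T.f j * T.f j = 2 := by rw [← hsum]; exact T.ff
  have hcard : Z.card ≤ 2 := by
    have := Finset.card_nsmul_le_sum Z (fun j => T.f j * T.f j) 1 hpos
    rw [hn] at this
    simpa using this
  have hdz : ∑ j ∈ Z, T.d j * T.f j = 0 := by
    rw [← hsum, ← T.fd]; exact Finset.sum_congr rfl fun j _ => mul_comm _ _
  have hiZ : i ∈ Z := Finset.mem_filter.mpr ⟨Finset.mem_univ i, hi⟩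
  rcases hc : Z.card with _ | _ | _ | k
  · rw [Finset.card_eq_zero.mp hc] at hiZ; simp at hiZ
  · obtain ⟨z, hz⟩ := Finset.card_eq_one.mp hc
    rw [hz, Finset.sum_singleton] at hdz
    rw [hz, Finset.mem_singleton] at hiZ
    subst hiZ
    exact absurd ((mul_eq_zero.mp hdz).resolve_left (T.d_pos i).ne') hi
  · obtain ⟨x, y, hxy, hz⟩ := Finset.card_eq_two.mp hc
    have px := hpos x (by rw [hz]; simp)
    have py := hpos y (by rw [hz]; simp)
    rw [hz, Finset.sum_pair hxy] at hn hdz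
    have hfx : T.f x * T.f x = 1 := by omega
    have hfy : T.f y * T.f y = 1 := by omega
    have hneg : T.f y = -T.f x ∧ T.d y = T.d x := by
      have := T.d_pos x
      have := T.d_pos y
      rcases mul_self_eq_one_iff.mp hfx with e | e <;>
        rcases mul_self_eq_one_iff.mp hfy with e' | e' <;> rw [e, e'] at hdz ⊢ <;> omega
    have hfx0 : T.f x ≠ 0 := fun e => by rw [e] at hfx; omega
    have heq : ∀ g : ι → ℤ, ∑ j, g j * T.f j = 0 → g x = g y := fun g hg => by
      rw [hsum, hz, Finset.sum_pair hxy, hneg.1] at hg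
      have : (g x - g y) * T.f x = 0 := by linear_combination hg
      have := (mul_eq_zero.mp this).resolve_right hfx0
      omega
    have ha := heq T.a T.af
    have hb := heq T.b T.bf
    have hc' := heq T.c T.cf
    have hef := T.ef
    rw [← Finset.sum_subset (Finset.subset_univ Z) (fun j _ hj => by
      simp only [hZ, Finset.mem_filter, Finset.mem_univ, true_and, not_not] at hj
      simp [hj]), hz, Finset.sum_pair hxy, hneg.1, hneg.2, ← ha, ← hb, ← hc'] at hef
    have hd0 : (T.d x : ℚ) ≠ 0 := by exact_mod_cast (T.d_pos x).ne'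
    have hfq : (T.f x : ℚ) * T.f x = 1 := by exact_mod_cast hfx
    push_cast at hef
    field_simp at hef
    have hv : (3 * T.a x + 3 * T.b x - 5 * T.c x : ℚ) = 0 := by
      linear_combination (1 / 16 : ℚ) * hef - (3 * T.a x + 3 * T.b x - 5 * T.c x : ℚ) * hfq
    have hv' : 3 * T.a x + 3 * T.b x - 5 * T.c x = 0 := by exact_mod_cast hv
    have hca : T.c x = 0 ∧ T.b x = -T.a x := by
      rcases T.vecA.le_one x with e | e | e <;> rcases T.vecB.le_one x with e' | e' | e' <;>
        rcases T.vecC.le_one x with e'' | e'' | e'' <;> rw [e, e', e''] at hv' <;>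
          omega
    have hax : T.a x = 0 := by
      by_contra hax
      obtain ⟨z, hzz, hzab⟩ := T.vecA.common T.vecB T.d_pos T.ab
      have hne : ∀ j, T.f j ≠ 0 → j ≠ T.one := fun j hj e => hj (by rw [e]; exact T.one_vals.2.2.2.1)
      have hm : x ∈ supp T.one T.a ∩ supp T.one T.b := Finset.mem_inter.mpr
        ⟨mem_supp.mpr ⟨hne x hfx0, hax⟩, mem_supp.mpr ⟨hne x hfx0, by omega⟩⟩
      rw [hzz, Finset.mem_singleton] at hm
      rw [← hm] at hzab
      omega
    rw [hz, Finset.mem_insert, Finset.mem_singleton] at hiZ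
    rcases hiZ with rfl | rfl <;> omega
  · omega

/-- The signed degree. -/
def sd (m : ι → ℤ) (i : ι) : ℤ := m i * T.d i

theorem term {m : ι → ℤ} (hm : IsVec T.one T.d m) {i : ι} (hi : i ∈ supp T.one m) (k : ℤ) (q : ℚ)
    (hv : 3 * T.a i + 3 * T.b i - 5 * T.c i = k * m i) (hf : T.f i = 0) (hq : q = (k : ℚ) ^ 2) :
    (3 * T.a i + 3 * T.b i - 5 * T.c i + 4 * T.f i : ℚ) ^ 2 / T.d i * m i = q / T.sd m i := by
  have hd0 : (T.d i : ℚ) ≠ 0 := by exact_mod_cast (T.d_pos i).ne'
  have hm0 : (m i : ℚ) ≠ 0 := by exact_mod_cast (mem_supp.mp hi).2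
  have hmm : (m i : ℚ) * m i = 1 := by exact_mod_cast hm.sq_eq_one hi
  have hv' : (3 * T.a i + 3 * T.b i - 5 * T.c i + 4 * T.f i : ℚ) = k * m i := by
    rw [hf]; push_cast
    rw [show (3 * (T.a i : ℚ) + 3 * T.b i - 5 * T.c i) = ((k * m i : ℤ) : ℚ) by rw [← hv]; push_cast; ring]
    push_cast; ring
  rw [hv', hq, sd]
  push_cast
  field_simp
  linear_combination (k : ℚ) ^ 2 * ((m i : ℚ) * m i + 1) * hmm

theorem sd_cong {m : ι → ℤ} (hm : IsVec T.one T.d m) {i : ι} (hi : i ∈ supp T.one m) (k : ℤ)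
    (hv : 3 * T.a i + 3 * T.b i - 5 * T.c i = k * m i) (hf : T.f i = 0) :
    T.sd m i % 8 = k % 8 := by
  obtain ⟨e, he⟩ := T.cong i
  rw [hf, hv] at he
  have hmm := hm.sq_eq_one hi
  have : T.sd m i = k + 8 * (m i * e) := by
    rw [sd, show T.d i = k * m i + 8 * e by linarith]
    linear_combination k * hmm
  omega

theorem f_zero_of_mem {i : ι} (h : T.a i ≠ 0 ∨ T.b i ≠ 0 ∨ T.c i ≠ 0) : T.f i = 0 := by
  by_contra hf
  obtain ⟨h1, h2, h3⟩ := T.f_disjoint hf
  omega

open Classical in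
theorem sum_three {m : ι → ℤ} (hm : IsVec T.one T.d m) {x y z : ι} (hxy : x ≠ y) (hxz : x ≠ z)
    (hyz : y ≠ z) (h : supp T.one m = {x, y, z}) :
    (∑ i, (3 * T.a i + 3 * T.b i - 5 * T.c i + 4 * T.f i : ℚ) ^ 2 * m i / T.d i) =
      1 + (3 * T.a x + 3 * T.b x - 5 * T.c x + 4 * T.f x : ℚ) ^ 2 / T.d x * m x +
        (3 * T.a y + 3 * T.b y - 5 * T.c y + 4 * T.f y : ℚ) ^ 2 / T.d y * m y +
        (3 * T.a z + 3 * T.b z - 5 * T.c z + 4 * T.f z : ℚ) ^ 2 / T.d z * m z ∧
      1 + T.sd m x + T.sd m y + T.sd m z = 0 := by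
  classical
  obtain ⟨o1, o2, o3, o4, o5⟩ := T.one_vals
  constructor
  · rw [Finset.sum_congr rfl fun i _ => (div_mul_eq_mul_div _ _ _).symm]
    rw [sum_eq_rat (one := T.one), h, Finset.sum_insert (by simp [hxy, hxz]), Finset.sum_pair hyz,
      o1, o2, o3, o4, o5, hm.base]
    push_cast
    ring
  · have k := sum_eq (one := T.one) m T.d
    rw [hm.ortho, hm.base, o5, h, Finset.sum_insert (by simp [hxy, hxz]), Finset.sum_pair hyz] at k
    simp only [sd]
    omega

open Classical in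
theorem squares_le {l : List ι} (hl : l.Nodup) : (l.map fun i => T.d i * T.d i).sum ≤ (T.N : ℤ) := by
  refine le_trans (le_of_eq ?_) (le_trans (Finset.sum_le_sum_of_subset_of_nonneg
    (Finset.subset_univ l.toFinset) fun i _ _ => mul_self_nonneg (T.d i)) T.squares)
  exact (List.sum_toFinset _ hl).symm

theorem sd_sq {m : ι → ℤ} (hm : IsVec T.one T.d m) {i : ι} (hi : i ∈ supp T.one m) :
    T.sd m i * T.sd m i = T.d i * T.d i := by
  rw [sd, mul_mul_mul_comm, hm.sq_eq_one hi, one_mul]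

/-- The two possible orders. -/
theorem order_cases : T.N = 175560 ∨ T.N = 189000 := by
  classical
  obtain ⟨p, hp, hpe⟩ := T.vecA.common T.vecB T.d_pos T.ab
  obtain ⟨q, hq, hqe⟩ := T.vecA.common T.vecC T.d_pos T.ac
  obtain ⟨r, hr, hre⟩ := T.vecB.common T.vecC T.d_pos T.bc
  have hpA := Finset.mem_inter.mp (hp.ge (Finset.mem_singleton_self p))
  have hqA := Finset.mem_inter.mp (hq.ge (Finset.mem_singleton_self q))
  have hrB := Finset.mem_inter.mp (hr.ge (Finset.mem_singleton_self r))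
  have uab : ∀ i, i ∈ supp T.one T.a → i ∈ supp T.one T.b → i = p := fun i h1 h2 =>
    Finset.mem_singleton.mp (hp.le (Finset.mem_inter.mpr ⟨h1, h2⟩))
  have uac : ∀ i, i ∈ supp T.one T.a → i ∈ supp T.one T.c → i = q := fun i h1 h2 =>
    Finset.mem_singleton.mp (hq.le (Finset.mem_inter.mpr ⟨h1, h2⟩))
  have ubc : ∀ i, i ∈ supp T.one T.b → i ∈ supp T.one T.c → i = r := fun i h1 h2 =>
    Finset.mem_singleton.mp (hr.le (Finset.mem_inter.mpr ⟨h1, h2⟩))
  by_cases hpq : p = q
  · subst hpq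
    obtain ⟨a1, a2, ha12, hA⟩ := Finset.card_eq_two.mp
      (show ((supp T.one T.a).erase p).card = 2 by rw [Finset.card_erase_of_mem hpA.1, T.vecA.card_supp])
    obtain ⟨c1, c2, hc12, hC⟩ := Finset.card_eq_two.mp
      (show ((supp T.one T.c).erase p).card = 2 by rw [Finset.card_erase_of_mem hqA.2, T.vecC.card_supp])
    have hA' : supp T.one T.a = {p, a1, a2} := by rw [← Finset.insert_erase hpA.1, hA]
    have hC' : supp T.one T.c = {p, c1, c2} := by rw [← Finset.insert_erase hqA.2, hC]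
    have memA : ∀ i ∈ ({a1, a2} : Finset ι), i ∈ supp T.one T.a ∧ i ≠ p ∧ T.b i = 0 ∧ T.c i = 0 := by
      intro i hi
      rw [← hA, Finset.mem_erase] at hi
      exact ⟨hi.2, hi.1, T.eq_zero_of_not_mem (mem_supp.mp hi.2).1 fun h => hi.1 (uab i hi.2 h),
        T.eq_zero_of_not_mem (mem_supp.mp hi.2).1 fun h => hi.1 (uac i hi.2 h)⟩
    have memC : ∀ i ∈ ({c1, c2} : Finset ι), i ∈ supp T.one T.c ∧ i ≠ p ∧ T.a i = 0 ∧ T.b i = 0 := by
      intro i hi
      rw [← hC, Finset.mem_erase] at hi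
      refine ⟨hi.2, hi.1, T.eq_zero_of_not_mem (mem_supp.mp hi.2).1 fun h => hi.1 (uac i h hi.2),
        T.eq_zero_of_not_mem (mem_supp.mp hi.2).1 fun h => hi.1 ?_⟩
      rw [ubc i h hi.2, ← ubc p hpA.2 hqA.2]
    obtain ⟨m1, n1, b1, e1⟩ := memA a1 (by simp)
    obtain ⟨m2, n2, b2, e2⟩ := memA a2 (by simp)
    obtain ⟨k1, l1, x1, y1⟩ := memC c1 (by simp)
    obtain ⟨k2, l2, x2, y2⟩ := memC c2 (by simp)
    have fp := T.f_zero_of_mem (Or.inl (mem_supp.mp hpA.1).2)
    have f1 := T.f_zero_of_mem (Or.inl (mem_supp.mp m1).2)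
    have f2 := T.f_zero_of_mem (Or.inl (mem_supp.mp m2).2)
    have g1 := T.f_zero_of_mem (Or.inr (Or.inr (mem_supp.mp k1).2))
    have g2 := T.f_zero_of_mem (Or.inr (Or.inr (mem_supp.mp k2).2))
    have vpa : 3 * T.a p + 3 * T.b p - 5 * T.c p = 1 * T.a p := by omega
    have vpc : 3 * T.a p + 3 * T.b p - 5 * T.c p = 1 * T.c p := by omega
    have va1 : 3 * T.a a1 + 3 * T.b a1 - 5 * T.c a1 = 3 * T.a a1 := by omega
    have va2 : 3 * T.a a2 + 3 * T.b a2 - 5 * T.c a2 = 3 * T.a a2 := by omega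
    have vc1 : 3 * T.a c1 + 3 * T.b c1 - 5 * T.c c1 = -5 * T.c c1 := by omega
    have vc2 : 3 * T.a c2 + 3 * T.b c2 - 5 * T.c c2 = -5 * T.c c2 := by omega
    obtain ⟨sa, da⟩ := T.sum_three T.vecA (Ne.symm n1) (Ne.symm n2) ha12 hA'
    obtain ⟨sc, dc⟩ := T.sum_three T.vecC (Ne.symm l1) (Ne.symm l2) hc12 hC'
    rw [T.term T.vecA hpA.1 1 1 vpa fp (by norm_num), T.term T.vecA m1 3 9 va1 f1 (by norm_num),
      T.term T.vecA m2 3 9 va2 f2 (by norm_num)] at sa
    rw [T.term T.vecC hqA.2 1 1 vpc fp (by norm_num), T.term T.vecC k1 (-5) 25 vc1 g1 (by norm_num),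
      T.term T.vecC k2 (-5) 25 vc2 g2 (by norm_num)] at sc
    have hW : T.sd T.c p = T.sd T.a p := by rw [sd, sd, hqe]
    rw [hW] at sc dc
    have ea := T.ea
    have ec := T.ec
    rw [sa] at ea
    rw [sc] at ec
    have hnd : [T.one, p, a1, a2, c1, c2].Nodup := by
      have hne : ∀ i, ∀ m : ι → ℤ, i ∈ supp T.one m → T.one ≠ i := fun i m h e =>
        (mem_supp.mp h).1 e.symm
      have d1 : a1 ≠ c1 := fun e => n1 (uac a1 m1 (e ▸ k1))
      have d2 : a1 ≠ c2 := fun e => n1 (uac a1 m1 (e ▸ k2))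
      have d3 : a2 ≠ c1 := fun e => n2 (uac a2 m2 (e ▸ k1))
      have d4 : a2 ≠ c2 := fun e => n2 (uac a2 m2 (e ▸ k2))
      simp [hne _ _ hpA.1, hne _ _ m1, hne _ _ m2, hne _ _ k1, hne _ _ k2, Ne.symm n1, Ne.symm n2,
        Ne.symm l1, Ne.symm l2, ha12, hc12, d1, d2, d3, d4]
    have hsq := T.squares_le hnd
    simp only [List.map_cons, List.map_nil, List.sum_cons, List.sum_nil, T.one_vals.2.2.2.2] at hsq
    refine sun_cases (W := T.sd T.a p) (A := T.sd T.a a1) (B := T.sd T.a a2) (C := T.sd T.c c1)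
      (D := T.sd T.c c2) ?_ ?_ ?_ ?_ ?_ (by omega) (by omega) T.dvd ec ea ?_
    · rw [T.sd_cong T.vecA hpA.1 1 vpa fp]; norm_num
    · rw [T.sd_cong T.vecC k1 (-5) vc1 g1]; norm_num
    · rw [T.sd_cong T.vecC k2 (-5) vc2 g2]; norm_num
    · rw [T.sd_cong T.vecA m1 3 va1 f1]; norm_num
    · rw [T.sd_cong T.vecA m2 3 va2 f2]; norm_num
    · rw [T.sd_sq T.vecA hpA.1, T.sd_sq T.vecA m1, T.sd_sq T.vecA m2, T.sd_sq T.vecC k1,
        T.sd_sq T.vecC k2]
      omega
  · exfalso
    have hrp : r ≠ p := fun e => hpq (uac p hpA.1 (e ▸ hrB.2))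
    have hrq : r ≠ q := fun e => hpq (uab q hqA.1 (e ▸ hrB.1)).symm
    obtain ⟨a1, hA⟩ := Finset.card_eq_one.mp
      (show (((supp T.one T.a).erase p).erase q).card = 1 by
        rw [Finset.card_erase_of_mem (Finset.mem_erase.mpr ⟨Ne.symm hpq, hqA.1⟩),
          Finset.card_erase_of_mem hpA.1, T.vecA.card_supp])
    obtain ⟨c1, hC⟩ := Finset.card_eq_one.mp
      (show (((supp T.one T.c).erase q).erase r).card = 1 by
        rw [Finset.card_erase_of_mem (Finset.mem_erase.mpr ⟨hrq, hrB.2⟩),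
          Finset.card_erase_of_mem hqA.2, T.vecC.card_supp])
    have hA' : supp T.one T.a = {p, q, a1} := by
      rw [← Finset.insert_erase hpA.1, ← Finset.insert_erase (Finset.mem_erase.mpr ⟨Ne.symm hpq, hqA.1⟩), hA]
    have hC' : supp T.one T.c = {q, r, c1} := by
      rw [← Finset.insert_erase hqA.2, ← Finset.insert_erase (Finset.mem_erase.mpr ⟨hrq, hrB.2⟩), hC]
    have ha1 := hA.ge (Finset.mem_singleton_self a1)
    simp only [Finset.mem_erase] at ha1
    have hc1 := hC.ge (Finset.mem_singleton_self c1)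
    simp only [Finset.mem_erase] at hc1
    obtain ⟨nq1, np1, m1⟩ := ha1
    obtain ⟨nr1, lq1, k1⟩ := hc1
    have b1 := T.eq_zero_of_not_mem (mem_supp.mp m1).1 (m := T.b) fun h => np1 (uab a1 m1 h)
    have e1 := T.eq_zero_of_not_mem (mem_supp.mp m1).1 (m := T.c) fun h => nq1 (uac a1 m1 h)
    have x1 := T.eq_zero_of_not_mem (mem_supp.mp k1).1 (m := T.a) fun h => lq1 (uac c1 h k1)
    have y1 := T.eq_zero_of_not_mem (mem_supp.mp k1).1 (m := T.b) fun h => nr1 (ubc c1 h k1)
    have pc0 := T.eq_zero_of_not_mem (mem_supp.mp hpA.1).1 (m := T.c) fun h => hpq (uac p hpA.1 h)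
    have qb0 := T.eq_zero_of_not_mem (mem_supp.mp hqA.1).1 (m := T.b) fun h => hpq (uab q hqA.1 h).symm
    have ra0 := T.eq_zero_of_not_mem (mem_supp.mp hrB.1).1 (m := T.a) fun h => hrp (uab r h hrB.1)
    have fp := T.f_zero_of_mem (Or.inl (mem_supp.mp hpA.1).2)
    have fq := T.f_zero_of_mem (Or.inl (mem_supp.mp hqA.1).2)
    have fr := T.f_zero_of_mem (Or.inr (Or.inl (mem_supp.mp hrB.1).2))
    have f1 := T.f_zero_of_mem (Or.inl (mem_supp.mp m1).2)
    have g1 := T.f_zero_of_mem (Or.inr (Or.inr (mem_supp.mp k1).2))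
    have vp : 3 * T.a p + 3 * T.b p - 5 * T.c p = 6 * T.a p := by omega
    have vqa : 3 * T.a q + 3 * T.b q - 5 * T.c q = -2 * T.a q := by omega
    have vqc : 3 * T.a q + 3 * T.b q - 5 * T.c q = -2 * T.c q := by omega
    have vr : 3 * T.a r + 3 * T.b r - 5 * T.c r = -2 * T.c r := by omega
    have va1 : 3 * T.a a1 + 3 * T.b a1 - 5 * T.c a1 = 3 * T.a a1 := by omega
    have vc1 : 3 * T.a c1 + 3 * T.b c1 - 5 * T.c c1 = -5 * T.c c1 := by omega
    obtain ⟨sa, da⟩ := T.sum_three T.vecA hpq (Ne.symm np1) (Ne.symm nq1) hA'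
    obtain ⟨sc, dc⟩ := T.sum_three T.vecC (Ne.symm hrq) (Ne.symm lq1) (Ne.symm nr1) hC'
    rw [T.term T.vecA hpA.1 6 36 vp fp (by norm_num), T.term T.vecA hqA.1 (-2) 4 vqa fq (by norm_num),
      T.term T.vecA m1 3 9 va1 f1 (by norm_num)] at sa
    rw [T.term T.vecC hqA.2 (-2) 4 vqc fq (by norm_num), T.term T.vecC hrB.2 (-2) 4 vr fr (by norm_num),
      T.term T.vecC k1 (-5) 25 vc1 g1 (by norm_num)] at sc
    obtain ⟨j, ja, jb, jc, jd⟩ := T.galois q
    have hjr : j = r := by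
      have hj0 : j ≠ T.one := fun e => by
        rw [e, T.one_vals.1] at ja
        omega
      refine ubc j (mem_supp.mpr ⟨hj0, ?_⟩) (mem_supp.mpr ⟨hj0, ?_⟩)
      · rw [jb]; exact (mem_supp.mp hqA.1).2
      · rw [jc]; exact (mem_supp.mp hqA.2).2
    subst hjr
    have hR : T.sd T.c j = T.sd T.c q := by rw [sd, sd, jc, jd]
    have hQ : T.sd T.a q = T.sd T.c q := by rw [sd, sd, hqe]
    rw [hR] at sc dc
    rw [hQ] at sa da
    have ea := T.ea
    have ec := T.ec
    rw [sa] at ea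
    rw [sc] at ec
    have hne : ∀ i, ∀ m : ι → ℤ, i ∈ supp T.one m → T.one ≠ i := fun i m h e =>
      (mem_supp.mp h).1 e.symm
    have hnd : [T.one, p, q, j, c1].Nodup := by
      have d1 : p ≠ c1 := fun e => by
        rw [← e] at k1
        exact (mem_supp.mp k1).2 pc0
      simp [hne _ _ hpA.1, hne _ _ hqA.1, hne _ _ hrB.1, hne _ _ k1, hpq, Ne.symm hrp, Ne.symm hrq,
        d1, Ne.symm lq1, Ne.symm nr1]
    have hsq := T.squares_le hnd
    simp only [List.map_cons, List.map_nil, List.sum_cons, List.sum_nil, T.one_vals.2.2.2.2,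
      jd] at hsq
    refine tri_impossible (N := T.N) (P := T.sd T.a p) (Q := T.sd T.c q) (A := T.sd T.a a1)
      (C := T.sd T.c c1) ?_ ?_ ?_ (by omega) (by omega) ?_ ea ?_ ?_
    · rw [T.sd_cong T.vecA hpA.1 6 vp fp]; norm_num
    · rw [T.sd_cong T.vecC hqA.2 (-2) vqc fq]; norm_num
    · rw [T.sd_cong T.vecA m1 3 va1 f1]; norm_num
    · rw [← ec]; ring
    · rw [T.sd_sq T.vecA hpA.1]
      nlinarith [mul_self_nonneg (T.d q), mul_self_nonneg (T.d c1)]
    · rw [T.sd_sq T.vecC hqA.2, T.sd_sq T.vecC k1]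
      nlinarith [mul_self_nonneg (T.d p)]

end Table

end CfsgLib.JankoOrder
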