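import Cfsg.Agent.JankoOrder.Columns
import Cfsg.Agent.JankoOrder.Table
import Cfsg.Agent.S4665

/-!
The numerical table of a group with an involution centralizer `2 × A₅`.
-/

set_option autoImplicit false
set_option linter.style.haveILetI false
set_option linter.unusedSectionVars false

namespace CfsgLib.JankoOrder

open scoped ComplexConjugate
open Cfsg CfsgLib.Chars

universe u

theorem card_Cen : Fintype.card Cen = 120 := by decide +kernel

variable {G : Type u} [Group G] [Fintype G]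

namespace Data

variable (D : Data G)

/-- a combination of the values on the special classes -/
noncomputable def lin (α β γ δ : ℂ) (χ : IrrCharacter G) : ℂ :=
  α * D.V χ + β * D.W χ + γ * D.X χ + δ * D.Y χ

theorem gram (α β γ δ α' β' γ' δ' : ℂ) :
    ∑ χ : IrrCharacter G, D.lin α β γ δ χ * D.lin α' β' γ' δ' χ =
      120 * (α * α') + 6 * (β * β') + 10 * (γ * γ') + 10 * (δ * δ') := by
  classical
  obtain ⟨-, -, -, -, -, -, -, -, px, pt, -⟩ := extra_ty
  have py := pow_ty.1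
  have pz := pow_ty2.1
  have rt : ∃ g : Cen, g * tK * g⁻¹ = tK⁻¹ := ⟨1, by decide +kernel⟩
  have cvv := D.column pt pt rt
  have cvw := D.column pt px real_tx
  have cvx := D.column pt py real_ty
  have cvy := D.column pt pz real_ty2
  have cww := D.column px px real_tx
  have cwx := D.column px py real_ty
  have cwy := D.column px pz real_ty2
  have cxx := D.column py py real_ty
  have cxy := D.column py pz real_ty2
  have cyy := D.column pz pz real_ty2
  rw [if_pos ⟨1, by simp⟩, card_tK] at cvv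
  rw [if_neg not_conj_t_tx] at cvw
  rw [if_neg not_conj_t_ty] at cvx
  rw [if_neg not_conj_t_ty2] at cvy
  rw [if_pos ⟨1, by simp⟩, card_tx] at cww
  rw [if_neg not_conj_tx_ty] at cwx
  rw [if_neg not_conj_tx_ty2] at cwy
  rw [if_pos ⟨1, by simp⟩, card_ty] at cxx
  rw [if_neg not_conj_ty_ty2] at cxy
  rw [if_pos ⟨1, by simp⟩, card_ty2] at cyy
  have e : ∀ χ : IrrCharacter G, D.lin α β γ δ χ * D.lin α' β' γ' δ' χ =
      α * α' * (D.V χ * D.V χ) + β * β' * (D.W χ * D.W χ) + γ * γ' * (D.X χ * D.X χ) +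
      δ * δ' * (D.Y χ * D.Y χ) + (α * β' + β * α') * (D.V χ * D.W χ) +
      (α * γ' + γ * α') * (D.V χ * D.X χ) + (α * δ' + δ * α') * (D.V χ * D.Y χ) +
      (β * γ' + γ * β') * (D.W χ * D.X χ) + (β * δ' + δ * β') * (D.W χ * D.Y χ) +
      (γ * δ' + δ * γ') * (D.X χ * D.Y χ) := fun χ => by unfold lin; ring
  simp only [V, W, X, Y] at e
  simp only [e, Finset.sum_add_distrib, ← Finset.mul_sum, cvv, cvw, cvx, cvy, cww, cwx, cwy, cxx,
    cxy, cyy]
  push_cast
  ring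

theorem lin_one (α β γ δ : ℂ) : ∑ χ : IrrCharacter G, D.lin α β γ δ χ * (χ : G → ℂ) 1 = 0 := by
  obtain ⟨-, -, -, -, -, -, -, -, px, pt, -⟩ := extra_ty
  simp only [lin, add_mul, mul_assoc, Finset.sum_add_distrib, ← Finset.mul_sum, V, W, X, Y,
    D.column_one pt, D.column_one px, D.column_one pow_ty.1, D.column_one pow_ty2.1]
  ring

theorem card_pairs {k : Cen} (hk : k ^ 15 = tK) :
    Nat.card {p : G × G // p.1 * D.t * p.1⁻¹ * (p.2 * D.t * p.2⁻¹) = D.φ k} =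
      Fintype.card {r : Cen // r * r = 1 ∧ r ≠ 1 ∧ r ≠ k ∧ r * k * r = k⁻¹} * (120 * 120) := by
  classical
  set R := {r : Cen // r * r = 1 ∧ r ≠ 1 ∧ r ≠ k ∧ r * k * r = k⁻¹}
  have hsq : ∀ r : R, (r.1 * k) * (r.1 * k) = 1 := fun r => by
    rw [← mul_assoc, r.2.2.2.2, inv_mul_cancel]
  have hne : ∀ r : R, r.1 * k ≠ 1 := fun r e => r.2.2.2.1 (by
    calc r.1 = r.1⁻¹ := (inv_eq_of_mul_eq_one_right r.2.1).symm
    _ = k := inv_eq_of_mul_eq_one_right e)
  have hc : ∀ r : R, IsConj D.t (D.φ r.1) := fun r =>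
    D.oneClass _ (by rw [← map_mul, r.2.1, map_one]) fun e => r.2.2.1 (D.inj (by rw [e, map_one]))
  have hd : ∀ r : R, IsConj D.t (D.φ (r.1 * k)) := fun r =>
    D.oneClass _ (by rw [← map_mul, hsq, map_one]) fun e => hne r (D.inj (by rw [e, map_one]))
  choose c hc' using fun r => isConj_iff.mp (hc r)
  choose d hd' using fun r => isConj_iff.mp (hd r)
  set Z := Subgroup.centralizer ({D.t} : Set G)
  have hZ : Nat.card Z = 120 := by
    rw [show Z = Subgroup.centralizer ({D.φ tK} : Set G) from rfl,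
      D.card_centralizer extra_ty.2.2.2.2.2.2.2.2.2.1, card_tK]
  rw [← Nat.card_eq_fintype_card, ← hZ, ← Nat.card_prod, ← Nat.card_prod]
  have hz : ∀ z : Z, z.1 * D.t * z.1⁻¹ = D.t := fun z =>
    mul_inv_eq_iff_eq_mul.mpr (Subgroup.mem_centralizer_singleton_iff.mp z.2)
  have hconj : ∀ (a : G) (z : Z), (a * z.1) * D.t * (a * z.1)⁻¹ = a * D.t * a⁻¹ := fun a z => by
    conv_rhs => rw [← hz z]
    group
  symm
  refine Nat.card_eq_of_bijective (fun x : R × Z × Z =>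
    ⟨(c x.1 * x.2.1.1, d x.1 * x.2.2.1), ?_⟩) ⟨?_, ?_⟩
  · simp only [hconj, hc', hd']
    rw [← map_mul, ← mul_assoc, x.1.2.1, one_mul]
  · rintro ⟨r, z1, z2⟩ ⟨r', z1', z2'⟩ e
    have e' := congrArg Subtype.val e
    simp only [Prod.mk.injEq] at e'
    have hr : r = r' := Subtype.ext (D.inj (by
      rw [← hc' r, ← hc' r', ← hconj (c r) z1, ← hconj (c r') z1', e'.1]))
    subst hr
    exact Prod.ext rfl (Prod.ext (Subtype.ext (mul_left_cancel e'.1)) (Subtype.ext (mul_left_cancel e'.2)))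
  · rintro ⟨⟨g, h⟩, hgh⟩
    simp only at hgh
    set A := g * D.t * g⁻¹ with hA
    set B := h * D.t * h⁻¹ with hB
    have hA2 : A * A = 1 := by rw [hA, ← pow_two, conj_pow, pow_two, D.t_sq, mul_one, mul_inv_cancel]
    have hB2 : B * B = 1 := by rw [hB, ← pow_two, conj_pow, pow_two, D.t_sq, mul_one, mul_inv_cancel]
    have hA1 : A ≠ 1 := by rw [hA, ne_eq, conj_eq_one_iff]; exact D.t_ne
    have hB1 : B ≠ 1 := by rw [hB, ne_eq, conj_eq_one_iff]; exact D.t_ne
    clear_value A B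
    have hAi : A⁻¹ = A := inv_eq_of_mul_eq_one_right hA2
    have hinv : A * D.φ k * A⁻¹ = (D.φ k)⁻¹ := by
      rw [← hgh, mul_inv_rev, inv_eq_of_mul_eq_one_right hB2, hAi, ← mul_assoc, hA2, one_mul]
    have hcomm : A * D.φ tK = D.φ tK * A := by
      refine mul_inv_eq_iff_eq_mul.mp ?_
      rw [← hk, map_pow, ← conj_pow, hinv, inv_pow, ← map_pow, hk]
      exact D.t_inv
    obtain ⟨r, hr⟩ := D.cent A hcomm
    have hr2 : r * r = 1 := D.inj (by rw [map_mul, hr, hA2, map_one])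
    have hBk : B = D.φ (r * k) := by
      rw [map_mul, hr, ← hgh, ← mul_assoc, hA2, one_mul]
    have hrk : r * k * r = k⁻¹ := D.inj (by
      rw [map_mul, map_mul, map_inv, hr, ← hinv, hAi])
    have hr1 : r ≠ 1 := fun e => hA1 (by rw [← hr, e, map_one])
    have hrk1 : r ≠ k := fun e => hB1 (by rw [hBk, ← e, hr2, map_one])
    set x : R := ⟨r, hr2, hr1, hrk1, hrk⟩
    have m1 : (c x)⁻¹ * g ∈ Z := by
      refine Subgroup.mem_centralizer_singleton_iff.mpr (mul_inv_eq_iff_eq_mul.mp ?_)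
      calc (c x)⁻¹ * g * D.t * ((c x)⁻¹ * g)⁻¹ = (c x)⁻¹ * (g * D.t * g⁻¹) * c x := by group
      _ = (c x)⁻¹ * (c x * D.t * (c x)⁻¹) * c x := by rw [hc', ← hA, hr]
      _ = D.t := by group
    have m2 : (d x)⁻¹ * h ∈ Z := by
      refine Subgroup.mem_centralizer_singleton_iff.mpr (mul_inv_eq_iff_eq_mul.mp ?_)
      calc (d x)⁻¹ * h * D.t * ((d x)⁻¹ * h)⁻¹ = (d x)⁻¹ * (h * D.t * h⁻¹) * d x := by group
      _ = (d x)⁻¹ * (d x * D.t * (d x)⁻¹) * d x := by rw [hd', ← hB, hBk]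
      _ = D.t := by group
    exact ⟨(x, ⟨_, m1⟩, ⟨_, m2⟩), Subtype.ext (Prod.ext (mul_inv_cancel_left _ _) (mul_inv_cancel_left _ _))⟩

theorem structure_eq {k : Cen} (hk : k ^ 15 = tK) (hr : ∃ g : Cen, g * k * g⁻¹ = k⁻¹) {n : ℕ}
    (hn : Fintype.card {r : Cen // r * r = 1 ∧ r ≠ 1 ∧ r ≠ k ∧ r * k * r = k⁻¹} = n) :
    (Nat.card G : ℂ) * ∑ χ : IrrCharacter G,
      D.V χ * D.V χ * (χ : G → ℂ) (D.φ k) / (χ : G → ℂ) 1 = 14400 * (n : ℂ) := by
  have h := CfsgLib.TIThree.card_pairs_eq_sum D.t D.t (D.φ k)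
  rw [D.card_pairs hk, hn] at h
  have e : ∀ χ : IrrCharacter G, conj ((χ : G → ℂ) (D.φ k)) = (χ : G → ℂ) (D.φ k) := fun χ => by
    rw [← map_inv_eq_conj (isCharacter_coe χ), D.val_inv hr χ]
  simp only [e] at h
  push_cast at h
  show (Nat.card G : ℂ) * ∑ χ : IrrCharacter G, (χ : G → ℂ) D.t * (χ : G → ℂ) D.t *
    (χ : G → ℂ) (D.φ k) / (χ : G → ℂ) 1 = _
  linear_combination -h

theorem degree_cong (χ : IrrCharacter G) {v : ℤ} (hv : D.V χ = v) :
    (8 : ℤ) ∣ (charDegree (χ : G → ℂ) : ℤ) - v := by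
  classical
  haveI : Fact (Nat.Prime 2) := ⟨Nat.prime_two⟩
  obtain ⟨P, hP⟩ := Sylow.exists_subgroup_card_pow_prime (G := G) 2 (n := 3)
    ((show (2 : ℕ) ^ 3 ∣ Nat.card Cen by rw [Nat.card_eq_fintype_card, card_Cen]; norm_num).trans
      (Subgroup.card_dvd_of_injective D.φ D.inj))
  obtain ⟨m, hm⟩ := Cfsg.Agent.S4665.sum_subgroup_irr P χ
  have hval : ∀ s : P, (χ : G → ℂ) (s : G) =
      if s = 1 then (charDegree (χ : G → ℂ) : ℂ) else (v : ℂ) := by
    intro s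
    split_ifs with h
    · rw [h, OneMemClass.coe_one, coe_charDegree]
    · rw [← hv]
      refine (eq_of_isConj (isClassFunction_coe χ) (D.oneClass (s : G) (D.exp_two _ 3 ?_) ?_)).symm
      · have hh : s ^ Nat.card P = 1 := pow_card_eq_one'
        rw [hP] at hh
        exact congrArg Subtype.val hh
      · exact fun e => h (Subtype.ext e)
  rw [Finset.sum_congr rfl fun s _ => hval s, ← Finset.add_sum_erase _ _ (Finset.mem_univ (1 : P)),
    if_pos rfl, Finset.sum_congr rfl fun s hs => if_neg (Finset.ne_of_mem_erase hs),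
    Finset.sum_const, Finset.card_erase_of_mem (Finset.mem_univ _), Finset.card_univ,
    ← Nat.card_eq_fintype_card, hP] at hm
  refine ⟨m - v, ?_⟩
  rw [← Int.cast_inj (α := ℂ)]
  push_cast at hm ⊢
  norm_num at hm
  linear_combination hm

include D in
theorem order_cases : Nat.card G = 175560 ∨ Nat.card G = 189000 := by
  classical
  choose a b c f hV hW hS hD using D.exists_coeffs
  have ha : ∀ χ, ((a χ : ℤ) : ℂ) = D.lin (1 / 15) (1 / 3) ((per + 2) / 5) ((1 - per) / 5) χ := by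
    intro χ
    have h1 := hV χ; have h2 := hW χ; have h3 := hS χ; have h4 := hD χ
    push_cast at h1 h2 h3 h4
    unfold lin
    linear_combination -(1 / 15 : ℂ) * h1 - (1 / 3 : ℂ) * h2 - (3 / 10 : ℂ) * h3 - (1 / 10 : ℂ) * h4
  have hb : ∀ χ, ((b χ : ℤ) : ℂ) = D.lin (1 / 15) (1 / 3) ((1 - per) / 5) ((per + 2) / 5) χ := by
    intro χ
    have h1 := hV χ; have h2 := hW χ; have h3 := hS χ; have h4 := hD χ
    push_cast at h1 h2 h3 h4
    unfold lin
    linear_combination -(1 / 15 : ℂ) * h1 - (1 / 3 : ℂ) * h2 - (3 / 10 : ℂ) * h3 + (1 / 10 : ℂ) * h4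
  have hc : ∀ χ, ((c χ : ℤ) : ℂ) = D.lin (-(1 / 15)) (2 / 3) (1 / 5) (1 / 5) χ := by
    intro χ
    have h1 := hV χ; have h2 := hW χ; have h3 := hS χ
    push_cast at h1 h2 h3
    unfold lin
    linear_combination (1 / 15 : ℂ) * h1 - (2 / 3 : ℂ) * h2 - (1 / 5 : ℂ) * h3
  have hf : ∀ χ, ((f χ : ℤ) : ℂ) = D.lin (1 / 15) (1 / 3) (-(1 / 5)) (-(1 / 5)) χ := by
    intro χ
    have h1 := hV χ; have h2 := hW χ; have h3 := hS χ
    push_cast at h1 h2 h3
    unfold lin
    linear_combination -(1 / 15 : ℂ) * h1 - (1 / 3 : ℂ) * h2 + (1 / 5 : ℂ) * h3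
  have hd0 : ∀ χ : IrrCharacter G, ((charDegree (χ : G → ℂ) : ℤ) : ℂ) = (χ : G → ℂ) 1 := fun χ => by
    rw [Int.cast_natCast, coe_charDegree]
  have hdeg : ∀ (α β γ δ : ℂ) (m : IrrCharacter G → ℤ), (∀ χ, (m χ : ℂ) = D.lin α β γ δ χ) →
      ∑ χ, m χ * (charDegree (χ : G → ℂ) : ℤ) = 0 := fun α β γ δ m hm => by
    rw [← Int.cast_inj (α := ℂ)]
    push_cast
    rw [← D.lin_one α β γ δ]
    exact Finset.sum_congr rfl fun χ _ => by rw [hm, coe_charDegree]
  have hgram : ∀ (α β γ δ α' β' γ' δ' : ℂ) (m n : IrrCharacter G → ℤ) (r : ℤ),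
      (∀ χ, (m χ : ℂ) = D.lin α β γ δ χ) → (∀ χ, (n χ : ℂ) = D.lin α' β' γ' δ' χ) →
      120 * (α * α') + 6 * (β * β') + 10 * (γ * γ') + 10 * (δ * δ') = (r : ℂ) →
      ∑ χ, m χ * n χ = r := fun α β γ δ α' β' γ' δ' m n r hm hn hr => by
    rw [← Int.cast_inj (α := ℂ), ← hr, ← D.gram]
    push_cast
    exact Finset.sum_congr rfl fun χ _ => by rw [hm, hn]
  have hp := per_sq
  obtain ⟨-, -, -, -, -, -, -, -, px, pt, hy4⟩ := extra_ty
  have et := D.structure_eq pt ⟨1, by decide +kernel⟩ inv_t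
  have ew := D.structure_eq px real_tx inv_tx
  have ex := D.structure_eq pow_ty.1 real_ty inv_ty
  have ey := D.structure_eq pow_ty2.1 real_ty2 inv_ty2
  have hone : ∀ g : G, ((oneChar G : IrrCharacter G) : G → ℂ) g = 1 := oneChar_apply
  obtain ⟨h1a, h1b, h1c, h1f⟩ : a (oneChar G) = 1 ∧ b (oneChar G) = 1 ∧ c (oneChar G) = 1 ∧
      f (oneChar G) = 0 := by
    refine ⟨?_, ?_, ?_, ?_⟩ <;> rw [← Int.cast_inj (α := ℂ)] <;>
      simp only [ha, hb, hc, hf, lin, V, W, X, Y, hone] <;> push_cast <;> ring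
  have hcomb : ∀ (m : IrrCharacter G → ℤ) (α β γ δ : ℂ) (r : ℤ),
      (∀ χ, (m χ : ℂ) = D.lin α β γ δ χ) → 30 * α + 6 * β + 10 * γ + 10 * δ = (r : ℂ) →
      ((Nat.card G : ℚ) * ∑ χ, (3 * a χ + 3 * b χ - 5 * c χ + 4 * f χ : ℚ) ^ 2 * m χ /
        ((charDegree (χ : G → ℂ) : ℤ) : ℚ)) = 14400 * (r : ℚ) := by
    intro m α β γ δ r hm hr
    apply Rat.cast_injective (α := ℂ)
    push_cast
    rw [← hr]
    have key : ∀ χ : IrrCharacter G, (3 * (a χ : ℂ) + 3 * b χ - 5 * c χ + 4 * f χ) ^ 2 * m χ /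
        (charDegree (χ : G → ℂ) : ℂ) =
        α * (D.V χ * D.V χ * (χ : G → ℂ) (D.φ tK) / (χ : G → ℂ) 1) +
        β * (D.V χ * D.V χ * (χ : G → ℂ) (D.φ (tK * xK)) / (χ : G → ℂ) 1) +
        γ * (D.V χ * D.V χ * (χ : G → ℂ) (D.φ (tK * yK)) / (χ : G → ℂ) 1) +
        δ * (D.V χ * D.V χ * (χ : G → ℂ) (D.φ (tK * yK ^ 2)) / (χ : G → ℂ) 1) := by
      intro χ
      have h1 := hV χ
      push_cast at h1
      rw [hm, coe_charDegree, ← h1]
      simp only [lin, V, W, X, Y]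
      ring
    rw [Finset.sum_congr rfl fun χ _ => key χ]
    simp only [Finset.sum_add_distrib, ← Finset.mul_sum, mul_add]
    linear_combination α * et + β * ew + γ * ex + δ * ey
  have hgal : ∀ χ : IrrCharacter G, ∃ ψ : IrrCharacter G, a ψ = b χ ∧ b ψ = a χ ∧ c ψ = c χ ∧
      (charDegree (ψ : G → ℂ) : ℤ) = charDegree (χ : G → ℂ) := by
    intro χ
    obtain ⟨σ, hσ⟩ := CfsgLib.GaloisHom.exists_ringHom_char (m := 30) (k := 7) (by norm_num) (by norm_num)
    let ψ : IrrCharacter G := ⟨fun g => σ ((χ : G → ℂ) g), isIrrCharacter_ringHom χ.2 σ⟩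
    have hval : ∀ k : Cen, k ^ 30 = 1 → (ψ : G → ℂ) (D.φ k) = (χ : G → ℂ) (D.φ (k ^ 7)) := by
      intro k hk
      rw [map_pow]
      exact hσ (isCharacter_coe χ) _ (orderOf_dvd_of_pow_eq_one (by rw [← map_pow, hk, map_one]))
    have h30 : ∀ k : Cen, k ^ 15 = tK → k ^ 30 = 1 := fun k hk => by
      rw [show 30 = 15 + 15 by norm_num, pow_add, hk, tK_sq]
    obtain ⟨g, hg⟩ := conj_ty4
    have vV : D.V ψ = D.V χ := by
      show (ψ : G → ℂ) (D.φ tK) = _
      rw [hval _ (h30 _ pt)]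
      show (χ : G → ℂ) _ = (χ : G → ℂ) (D.φ tK)
      congr 2
    have vW : D.W ψ = D.W χ := by
      show (ψ : G → ℂ) (D.φ _) = _
      rw [hval _ (h30 _ px), pow_tx.2]; rfl
    have vX : D.X ψ = D.Y χ := by
      show (ψ : G → ℂ) (D.φ _) = _
      rw [hval _ (h30 _ pow_ty.1), pow_ty.2]; rfl
    have vY : D.Y ψ = D.X χ := by
      show (ψ : G → ℂ) (D.φ _) = _
      rw [hval _ (h30 _ pow_ty2.1), pow_ty2.2, ← D.val_conj ⟨g, hg⟩ χ]; rfl
    refine ⟨ψ, ?_, ?_, ?_, ?_⟩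
    · rw [← Int.cast_inj (α := ℂ), ha, hb]; simp only [lin, vV, vW, vX, vY]; ring
    · rw [← Int.cast_inj (α := ℂ), ha, hb]; simp only [lin, vV, vW, vX, vY]; ring
    · rw [← Int.cast_inj (α := ℂ), hc, hc]; simp only [lin, vV, vW, vX, vY]; ring
    · rw [← Int.cast_inj (α := ℂ), hd0, hd0]
      show σ ((χ : G → ℂ) 1) = _
      rw [← coe_charDegree, map_natCast]
  have hsq : (∑ χ : IrrCharacter G, (charDegree (χ : G → ℂ) : ℤ) * (charDegree (χ : G → ℂ) : ℤ)) =
      (Nat.card G : ℤ) := by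
    have h := sum_irr_mul_map_inv (1 : G) (1 : G)
    rw [inv_one, if_pos (IsConj.refl _), show Subgroup.centralizer ({(1 : G)} : Set G) = ⊤ by
      ext x; simp [Subgroup.mem_centralizer_singleton_iff], Subgroup.card_top] at h
    rw [← Int.cast_inj (α := ℂ)]
    push_cast
    rw [← h]
    exact Finset.sum_congr rfl fun χ _ => by rw [coe_charDegree]
  exact Table.order_cases (ι := IrrCharacter G)
    { N := Nat.card G
      one := oneChar G
      a := a, b := b, c := c, f := f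
      d := fun χ => (charDegree (χ : G → ℂ) : ℤ)
      d_pos := fun χ => by exact_mod_cast charDegree_pos χ
      one_vals := ⟨h1a, h1b, h1c, h1f, by
        rw [← Int.cast_inj (α := ℂ), hd0, hone]; push_cast; ring⟩
      aa := hgram _ _ _ _ _ _ _ _ a a 4 ha ha (by push_cast; linear_combination (4 / 5 : ℂ) * hp)
      bb := hgram _ _ _ _ _ _ _ _ b b 4 hb hb (by push_cast; linear_combination (4 / 5 : ℂ) * hp)
      cc := hgram _ _ _ _ _ _ _ _ c c 4 hc hc (by push_cast; ring)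
      ff := hgram _ _ _ _ _ _ _ _ f f 2 hf hf (by push_cast; ring)
      ab := hgram _ _ _ _ _ _ _ _ a b 2 ha hb (by push_cast; linear_combination (-4 / 5 : ℂ) * hp)
      ac := hgram _ _ _ _ _ _ _ _ a c 2 ha hc (by push_cast; ring)
      bc := hgram _ _ _ _ _ _ _ _ b c 2 hb hc (by push_cast; ring)
      af := hgram _ _ _ _ _ _ _ _ a f 0 ha hf (by push_cast; ring)
      bf := hgram _ _ _ _ _ _ _ _ b f 0 hb hf (by push_cast; ring)
      cf := hgram _ _ _ _ _ _ _ _ c f 0 hc hf (by push_cast; ring)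
      ad := hdeg _ _ _ _ a ha
      bd := hdeg _ _ _ _ b hb
      cd := hdeg _ _ _ _ c hc
      fd := hdeg _ _ _ _ f hf
      ef := by
        have h := hcomb f _ _ _ _ 0 hf (by push_cast; ring)
        rw [Int.cast_zero, mul_zero] at h
        exact (mul_eq_zero.mp h).resolve_left (Nat.cast_ne_zero.mpr Nat.card_pos.ne')
      ea := (hcomb a _ _ _ _ 10 ha (by push_cast; ring)).trans (by norm_num)
      ec := (hcomb c _ _ _ _ 6 hc (by push_cast; ring)).trans (by norm_num)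
      cong := fun χ => D.degree_cong χ (by rw [hV χ])
      squares := hsq.le
      dvd := by
        rw [← card_Cen, ← Nat.card_eq_fintype_card]
        exact Subgroup.card_dvd_of_injective D.φ D.inj
      galois := hgal }

end Data

end CfsgLib.JankoOrder
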