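import Cfsg.Agent.JankoOrder.TableOfData
import Cfsg.Agent.Coprime44.InvariantSylow

/-!
The order 189000 is impossible: the centralizer of an element of order three.
-/

set_option autoImplicit false
set_option linter.style.haveILetI false
set_option linter.unusedSectionVars false

namespace CfsgLib.JankoOrder

open Subgroup

universe u

/-- an involution inverting the element of order three -/
def uK : Cen :=
  (1, ⟨Equiv.swap 0 1 * Equiv.swap 3 4, Equiv.Perm.mem_alternatingGroup.mpr (by decide +kernel)⟩)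

theorem uK_facts : uK * uK = 1 ∧ uK ≠ 1 ∧ tK * uK = uK * tK ∧ uK * xK * uK = xK⁻¹ ∧ tK * uK ≠ 1 ∧
    tK * xK * tK = xK := by
  refine ⟨?_, ?_, ?_, ?_, ?_, ?_⟩ <;> decide +kernel

theorem three_conj : ∀ k : Cen, ¬ (k ^ 3 = 1 ∧ k ≠ 1) ∨ ∃ g : Cen, g * xK * g⁻¹ = k := by
  decide +kernel

theorem cx_three : ∀ k : Cen, ¬ (k * xK = xK * k ∧ k ^ 3 = 1) ∨ k = 1 ∨ k = xK ∨ k = xK * xK := by
  decide +kernel

theorem cx_two : ∀ k : Cen, ¬ (k * xK = xK * k ∧ k * k = 1) ∨ k = 1 ∨ k = tK := by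
  decide +kernel

/-- the exponents of the square of a transvection-like map -/
theorem unipotent_cases : ∀ i j k l : ZMod 3,
    (i * i + j * k) * i + (i * j + j * l) * k = 1 → (i * i + j * k) * j + (i * j + j * l) * l = 0 →
    (k * i + l * k) * i + (k * j + l * l) * k = 0 → (k * i + l * k) * j + (k * j + l * l) * l = 1 →
    j = 0 ∨ k = 0 ∨ (i = 2 ∧ l = 0 ∧ j * k = 2) ∨ (i = 0 ∧ l = 2 ∧ j * k = 2) := by
  decide +kernel

variable {G : Type u} [Group G] [Finite G]

namespace Data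

variable (D : Data G)

include D in
/-- The crucial observation: no conjugation acts with order four. -/
theorem no_four {g x : G} (h8 : g ^ 8 * x = x * g ^ 8) : g ^ 2 * x = x * g ^ 2 := by
  obtain ⟨k, m, hm, he⟩ := Nat.exists_eq_pow_mul_and_not_dvd (orderOf_pos g).ne' 2 (by norm_num)
  have h2m : (g ^ m) * (g ^ m) = 1 := D.exp_two _ k (by
    rw [← pow_mul, mul_comm, ← he, pow_orderOf_eq_one])
  have hgm : g ^ (2 * m) = 1 := by rw [two_mul, pow_add, h2m]
  obtain ⟨q, r, hqr⟩ : ∃ q r : ℕ, 8 * q = 2 + 2 * m * r := by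
    obtain ⟨e, rfl⟩ : Odd m := Nat.odd_iff.mpr (by omega)
    rcases Nat.even_or_odd e with ⟨c, rfl⟩ | ⟨c, rfl⟩
    · exact ⟨1 + 3 * c, 3, by ring⟩
    · exact ⟨c + 1, 1, by ring⟩
  have : g ^ 2 = (g ^ 8) ^ q := by
    rw [← pow_mul, hqr, pow_add, pow_mul g (2 * m), hgm, one_pow, mul_one]
  rw [this]
  exact (Commute.pow_left (show Commute (g ^ 8) x from h8) q).eq

theorem xpow : D.φ xK ^ 3 = 1 := by
  rw [← map_pow, pow_three, ← mul_assoc, xK_facts.1, map_one]

theorem x_ne : D.φ xK ≠ 1 := fun h => xK_facts.2.1 (D.inj (by rw [h, map_one]))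

theorem conj_x {s a : G} (hs : s * s = 1) (hs1 : s ≠ 1) (hsa : s * a = a * s) (ha : a ^ 3 = 1)
    (ha1 : a ≠ 1) : IsConj (D.φ xK) a := by
  obtain ⟨c, hc⟩ := isConj_iff.mp (D.oneClass s hs hs1)
  have h : (c⁻¹ * a * c) * D.φ tK = D.φ tK * (c⁻¹ * a * c) := by
    calc (c⁻¹ * a * c) * D.φ tK = c⁻¹ * (a * (c * D.φ tK * c⁻¹)) * c := by group
    _ = c⁻¹ * ((c * D.φ tK * c⁻¹) * a) * c := by rw [hc, hsa]
    _ = D.φ tK * (c⁻¹ * a * c) := by group
  obtain ⟨k, hk⟩ := D.cent _ h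
  have hk3 : k ^ 3 = 1 := D.inj (by
    rw [map_pow, hk, show c⁻¹ * a * c = c⁻¹ * a * c⁻¹⁻¹ by rw [inv_inv], conj_pow, ha, mul_one,
      mul_inv_cancel, map_one])
  have hk1 : k ≠ 1 := fun e => ha1 (by
    rw [e, map_one] at hk
    calc a = c * (c⁻¹ * a * c) * c⁻¹ := by group
    _ = 1 := by rw [← hk, mul_one, mul_inv_cancel])
  obtain ⟨l, hl⟩ := (three_conj k).resolve_left fun h => h ⟨hk3, hk1⟩
  refine isConj_iff.mpr ⟨c * D.φ l, ?_⟩
  calc c * D.φ l * D.φ xK * (c * D.φ l)⁻¹ = c * (D.φ l * D.φ xK * (D.φ l)⁻¹) * c⁻¹ := by group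
  _ = c * (c⁻¹ * a * c) * c⁻¹ := by rw [← map_inv, ← map_mul, ← map_mul, hl, hk]
  _ = a := by group

include D in
/-- In the centralizer of an involution, centralizers of elements of order three are small. -/
theorem three_of_commute {s a g : G} (hs : s * s = 1) (hs1 : s ≠ 1) (hsa : s * a = a * s)
    (ha : a ^ 3 = 1) (ha1 : a ≠ 1) (hsg : s * g = g * s) (hga : g * a = a * g) (hg : g ^ 3 = 1) :
    g = 1 ∨ g = a ∨ g = a * a := by
  obtain ⟨c, hc⟩ := isConj_iff.mp (D.oneClass s hs hs1)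
  have hmem : ∀ b : G, s * b = b * s → ∃ k, D.φ k = c⁻¹ * b * c := by
    intro b hb
    refine D.cent _ ?_
    calc (c⁻¹ * b * c) * D.φ tK = c⁻¹ * (b * (c * D.φ tK * c⁻¹)) * c := by group
    _ = c⁻¹ * ((c * D.φ tK * c⁻¹) * b) * c := by rw [hc, hb]
    _ = D.φ tK * (c⁻¹ * b * c) := by group
  obtain ⟨k, hk⟩ := hmem a hsa
  obtain ⟨l, hl⟩ := hmem g hsg
  have hk3 : k ^ 3 = 1 := D.inj (by
    rw [map_pow, hk, show c⁻¹ * a * c = c⁻¹ * a * c⁻¹⁻¹ by rw [inv_inv], conj_pow, ha, mul_one,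
      mul_inv_cancel, map_one])
  have hl3 : l ^ 3 = 1 := D.inj (by
    rw [map_pow, hl, show c⁻¹ * g * c = c⁻¹ * g * c⁻¹⁻¹ by rw [inv_inv], conj_pow, hg, mul_one,
      mul_inv_cancel, map_one])
  have hcancel : ∀ b b' : G, c⁻¹ * b * c = c⁻¹ * b' * c → b = b' := fun b b' e => by
    simpa using e
  have hk1 : k ≠ 1 := fun e => ha1 (hcancel a 1 (by rw [← hk, e, map_one]; group))
  obtain ⟨m, hm⟩ := (three_conj k).resolve_left fun h => h ⟨hk3, hk1⟩
  have hlm : (m⁻¹ * l * m) * xK = xK * (m⁻¹ * l * m) := by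
    apply D.inj
    have e1 : D.φ l * D.φ k = D.φ k * D.φ l := by
      rw [hk, hl]
      calc c⁻¹ * g * c * (c⁻¹ * a * c) = c⁻¹ * (g * a) * c := by group
      _ = c⁻¹ * (a * g) * c := by rw [hga]
      _ = c⁻¹ * a * c * (c⁻¹ * g * c) := by group
    rw [← hm] at e1
    simp only [map_mul, map_inv] at e1 ⊢
    calc (D.φ m)⁻¹ * D.φ l * D.φ m * D.φ xK
        = (D.φ m)⁻¹ * (D.φ l * (D.φ m * D.φ xK * (D.φ m)⁻¹)) * D.φ m := by group
    _ = (D.φ m)⁻¹ * ((D.φ m * D.φ xK * (D.φ m)⁻¹) * D.φ l) * D.φ m := by rw [e1]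
    _ = D.φ xK * ((D.φ m)⁻¹ * D.φ l * D.φ m) := by group
  have hm3 : (m⁻¹ * l * m) ^ 3 = 1 := by
    rw [show m⁻¹ * l * m = m⁻¹ * l * m⁻¹⁻¹ by rw [inv_inv], conj_pow, hl3, mul_one, mul_inv_cancel]
  rcases (cx_three (m⁻¹ * l * m)).resolve_left fun h => h ⟨hlm, hm3⟩ with e | e | e
  · left
    refine hcancel g 1 ?_
    rw [← hl, show l = m * (m⁻¹ * l * m) * m⁻¹ by group, e, mul_one, mul_inv_cancel, map_one]
    group
  · right; left
    refine hcancel g a ?_
    rw [← hl, ← hk, ← hm]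
    congr 1
    rw [← e]; group
  · right; right
    refine hcancel g (a * a) ?_
    rw [← hl, show c⁻¹ * (a * a) * c = (c⁻¹ * a * c) * (c⁻¹ * a * c) by group, ← hk, ← hm, ← map_mul]
    congr 1
    rw [show l = m * (m⁻¹ * l * m) * m⁻¹ by group, e]; group

include D in
/-- A three-subgroup of the centralizer of `x` that is invariant under `t` and `u` and maximal. -/
theorem exists_invariant_three :
    ∃ Q : Subgroup G, IsPGroup 3 Q ∧ D.φ xK ∈ Q ∧ (∀ q ∈ Q, q * D.φ xK = D.φ xK * q) ∧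
      (∀ q ∈ Q, D.φ tK * q * D.φ tK ∈ Q) ∧ (∀ q ∈ Q, D.φ uK * q * D.φ uK ∈ Q) ∧
      ∀ T : Subgroup G, IsPGroup 3 T → (∀ q ∈ T, q * D.φ xK = D.φ xK * q) →
        Nat.card T ≤ Nat.card Q := by
  classical
  haveI : Fact (Nat.Prime 2) := ⟨Nat.prime_two⟩
  haveI : Fact (Nat.Prime 3) := ⟨Nat.prime_three⟩
  set x := D.φ xK with hx
  set H := centralizer ({x} : Set G) with hH
  have memH : ∀ g, g ∈ H ↔ g * x = x * g := fun g => mem_centralizer_singleton_iff
  have ht : D.φ tK ∈ H := (memH _).mpr (by rw [hx, ← map_mul, ← map_mul, xK_facts.2.2])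
  obtain ⟨P, hP⟩ := (IsPGroup.of_card (p := 2) (n := 1)
    (show Nat.card (zpowers (⟨D.φ tK, ht⟩ : H)) = 2 ^ 1 by
      rw [Nat.card_zpowers, pow_one]
      exact orderOf_eq_prime (Subtype.ext (by
        rw [SubmonoidClass.coe_pow, pow_two, ← map_mul, tK_sq, map_one]; rfl))
        fun e => tK_ne (D.inj (by rw [map_one]; exact congrArg Subtype.val e)))).exists_le_sylow
  have hsq : ∀ p : (P : Subgroup H), (p : H).1 * (p : H).1 = 1 := fun p => by
    obtain ⟨k, hk⟩ := P.2 p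
    exact D.exp_two _ k (congrArg (fun q : (P : Subgroup H) => (q : H).1) hk)
  have htP : (⟨D.φ tK, ht⟩ : H) ∈ (P : Subgroup H) := hP (mem_zpowers _)
  have hPtwo : ∀ p : H, p ∈ (P : Subgroup H) → p = 1 ∨ p = ⟨D.φ tK, ht⟩ := by
    intro p hp
    have hpt : p.1 * D.φ tK = D.φ tK * p.1 := by
      have h1 := hsq ⟨p, hp⟩
      have h2 := hsq ⟨p * ⟨D.φ tK, ht⟩, mul_mem hp htP⟩
      have h3 : D.φ tK * D.φ tK = 1 := by rw [← map_mul, tK_sq, map_one]
      simp only [Subgroup.coe_mul] at h1 h2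
      calc p.1 * D.φ tK = (p.1 * D.φ tK)⁻¹ := (inv_eq_of_mul_eq_one_right h2).symm
      _ = (D.φ tK)⁻¹ * p.1⁻¹ := mul_inv_rev _ _
      _ = D.φ tK * p.1 := by rw [inv_eq_of_mul_eq_one_right h3, inv_eq_of_mul_eq_one_right h1]
    obtain ⟨k, hk⟩ := D.cent p.1 hpt
    have h1 : k * xK = xK * k := D.inj (by rw [map_mul, map_mul, hk]; exact (memH _).mp p.2)
    have h2 : k * k = 1 := D.inj (by rw [map_mul, hk, map_one]; exact hsq ⟨p, hp⟩)
    rcases (cx_two k).resolve_left fun h => h ⟨h1, h2⟩ with e | e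
    · left; exact Subtype.ext (by rw [← hk, e, map_one]; rfl)
    · right; exact Subtype.ext (by rw [← hk, e])
  have hN : normalizer ((P : Subgroup H) : Set H) ≤ centralizer ((P : Subgroup H) : Set H) := by
    intro n hn
    rw [mem_centralizer_iff]
    intro p hp
    rcases hPtwo p hp with rfl | rfl
    · simp
    · rcases hPtwo _ ((mem_normalizer_iff.mp hn _).mp hp) with e | e
      · rw [conj_eq_one_iff] at e
        rw [e]; simp
      · exact (mul_inv_eq_iff_eq_mul.mp e).symm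
  have hC := MonoidHom.ker_transferSylow_isComplement' P hN
  set O := (MonoidHom.transferSylow P hN).ker
  have hcard : Nat.card O * Nat.card (P : Subgroup H) = Nat.card H := hC.card_mul_card
  have hP2 : Nat.card (P : Subgroup H) = 2 := by
    rw [Nat.card_eq_two_iff' (⟨1, one_mem _⟩ : (P : Subgroup H))]
    refine ⟨⟨⟨D.φ tK, ht⟩, htP⟩, fun e => tK_ne (D.inj (by
      rw [map_one]; exact congrArg (fun q : (P : Subgroup H) => (q : H).1) e)), fun q hq => ?_⟩
    rcases hPtwo q.1 q.2 with e | e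
    · exact absurd (Subtype.ext e) hq
    · exact Subtype.ext e
  have hOodd : ¬ 2 ∣ Nat.card O := by
    intro h
    have h4 : 2 ^ 2 ∣ Nat.card H := by rw [← hcard, hP2, pow_two]; exact mul_dvd_mul_right h 2
    have := P.pow_dvd_card_of_pow_dvd_card h4
    rw [hP2] at this
    norm_num at this
  have hOidx : O.index = 2 := by
    have h := O.card_mul_index
    rw [← hcard, hP2] at h
    exact Nat.eq_of_mul_eq_mul_left Nat.card_pos h
  have hodd : ∀ g : H, Odd (orderOf g) → g ∈ O := by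
    intro g ⟨i, hi⟩
    have h2 : g ^ 2 ∈ O := Subgroup.sq_mem_of_index_two hOidx g
    have : g = ((g ^ 2) ^ (i + 1)) := by
      rw [← pow_mul, show 2 * (i + 1) = orderOf g + 1 by omega, pow_succ, pow_orderOf_eq_one, one_mul]
    rw [this]
    exact pow_mem h2 _
  set K := O.map H.subtype with hK
  have hKcard : Nat.card K = Nat.card O := Subgroup.card_map_of_injective H.subtype_injective
  set U := zpowers (D.φ tK) ⊔ zpowers (D.φ uK) with hU
  have hinv : ∀ s : G, s * s = 1 → (s * x * s⁻¹ = x ∨ s * x * s⁻¹ = x⁻¹) →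
      ∀ k ∈ K, s * k * s⁻¹ ∈ K := by
    rintro s hs hsx _ ⟨o, ho, rfl⟩
    have hcomm : (s * o.1 * s⁻¹) * x = x * (s * o.1 * s⁻¹) := by
      have h1 : Commute o.1 x := (memH _).mp o.2
      have key : ∀ y, Commute o.1 y → Commute (s * o.1 * s⁻¹) (s * y * s⁻¹) := fun y hy =>
        Commute.map hy (MulAut.conj s).toMonoidHom
      rcases hsx with e | e
      · exact (e ▸ key x h1).eq
      · have := key x⁻¹ h1.inv_right
        rw [← conj_inv, e, inv_inv] at this
        exact this.eq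
    refine ⟨⟨s * o.1 * s⁻¹, (memH _).mpr hcomm⟩, hodd _ ?_, rfl⟩
    rw [← Subgroup.orderOf_coe]
    show Odd (orderOf ((MulAut.conj s) o.1))
    rw [MulEquiv.orderOf_eq, Subgroup.orderOf_coe, Nat.odd_iff]
    have hdvd : orderOf o ∣ Nat.card O := by
      rw [show orderOf o = orderOf (⟨o, ho⟩ : O) from (Subgroup.orderOf_coe ⟨o, ho⟩)]
      exact orderOf_dvd_natCard _
    rcases Nat.even_or_odd (orderOf o) with h | h
    · exact absurd ((even_iff_two_dvd.mp h).trans hdvd) hOodd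
    · exact Nat.odd_iff.mp h
  have htt : D.φ tK * D.φ tK = 1 := by rw [← map_mul, tK_sq, map_one]
  have huu : D.φ uK * D.φ uK = 1 := by rw [← map_mul, uK_facts.1, map_one]
  have hti : (D.φ tK)⁻¹ = D.φ tK := inv_eq_of_mul_eq_one_right htt
  have hui : (D.φ uK)⁻¹ = D.φ uK := inv_eq_of_mul_eq_one_right huu
  have hUK : U ≤ normalizer (K : Set G) := by
    refine sup_le (zpowers_le.mpr ?_) (zpowers_le.mpr ?_)
    · rw [mem_normalizer_iff]
      have hs := hinv _ htt (Or.inl (by rw [hti, hx, ← map_mul, ← map_mul, uK_facts.2.2.2.2.2]))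
      intro k
      refine ⟨hs k, fun h => ?_⟩
      have := hs _ h
      rwa [hti, show D.φ tK * (D.φ tK * k * D.φ tK) * D.φ tK =
        (D.φ tK * D.φ tK) * k * (D.φ tK * D.φ tK) by group, htt, one_mul, mul_one] at this
    · rw [mem_normalizer_iff]
      have hs := hinv _ huu (Or.inr (by rw [hui, hx, ← map_mul, ← map_mul, uK_facts.2.2.2.1, map_inv]))
      intro k
      refine ⟨hs k, fun h => ?_⟩
      have := hs _ h
      rwa [hui, show D.φ uK * (D.φ uK * k * D.φ uK) * D.φ uK =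
        (D.φ uK * D.φ uK) * k * (D.φ uK * D.φ uK) by group, huu, one_mul, mul_one] at this
  have hU2 : IsPGroup 2 U := by
    have hn : zpowers (D.φ uK) ≤ normalizer (zpowers (D.φ tK) : Set G) := by
      refine zpowers_le.mpr (centralizer_le_normalizer _ (mem_centralizer_iff.mpr ?_))
      rintro _ ⟨n, rfl⟩
      exact (Commute.zpow_left (show Commute (D.φ tK) (D.φ uK) from by
        unfold Commute SemiconjBy; rw [← map_mul, ← map_mul, uK_facts.2.2.1]) n).eq
    refine IsPGroup.to_sup_of_normal_left' (IsPGroup.of_card (n := 1) ?_) (IsPGroup.of_card (n := 1) ?_) hn <;>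
      rw [Nat.card_zpowers, pow_one]
    · exact orderOf_eq_prime (by rw [pow_two, htt]) fun e => tK_ne (D.inj (by rw [e, map_one]))
    · exact orderOf_eq_prime (by rw [pow_two, huu]) fun e => uK_facts.2.1 (D.inj (by rw [e, map_one]))
  obtain ⟨S, hS⟩ := CfsgLib.Coprime44.exists_invariant_sylow hU2 (hKcard ▸ hOodd) hUK 3
  set Q := (S : Subgroup K).map K.subtype with hQ
  have hQH : ∀ q ∈ Q, q * x = x * q := by
    rintro _ ⟨⟨_, o, -, rfl⟩, -, rfl⟩
    exact (memH _).mp o.2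
  have hmax : ∀ T : Subgroup G, IsPGroup 3 T → (∀ q ∈ T, q * x = x * q) →
      Nat.card T ≤ Nat.card Q := by
    intro T hT hTx
    have hTK : T ≤ K := by
      intro q hq
      refine ⟨⟨q, (memH _).mpr (hTx q hq)⟩, hodd _ ?_, rfl⟩
      obtain ⟨i, hi⟩ := (IsPGroup.iff_orderOf.mp hT) ⟨q, hq⟩
      rw [Subgroup.orderOf_mk] at hi
      rw [Subgroup.orderOf_mk, hi]
      exact Odd.pow (by decide)
    obtain ⟨i, hi⟩ := IsPGroup.iff_card.mp hT
    rw [hQ, Subgroup.card_map_of_injective K.subtype_injective]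
    refine Nat.le_of_dvd Nat.card_pos ?_
    rw [hi]
    exact S.pow_dvd_card_of_pow_dvd_card (hi ▸ Subgroup.card_dvd_of_le hTK)
  have hQp : IsPGroup 3 Q := S.2.map K.subtype
  have hxQ : x ∈ Q := by
    have hn : zpowers x ≤ normalizer (Q : Set G) := by
      refine zpowers_le.mpr (centralizer_le_normalizer _ (mem_centralizer_iff.mpr fun q hq => ?_))
      exact hQH q hq
    have hp : IsPGroup 3 (Q ⊔ zpowers x : Subgroup G) :=
      IsPGroup.to_sup_of_normal_left' hQp (IsPGroup.of_card (n := 1) (by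
        rw [Nat.card_zpowers, pow_one]; exact orderOf_eq_prime D.xpow D.x_ne)) hn
    have hle := hmax _ hp (fun q hq => by
      have : Q ⊔ zpowers x ≤ H := sup_le (fun q hq => (memH q).mpr (hQH q hq))
        (zpowers_le.mpr ((memH x).mpr rfl))
      exact (memH q).mp (this hq))
    have : Q = Q ⊔ zpowers x := Subgroup.eq_of_le_of_card_ge le_sup_left hle
    exact this ▸ (le_sup_right (a := Q) : zpowers x ≤ _) (mem_zpowers x)
  have hclose : ∀ s ∈ U, ∀ q ∈ Q, s * q * s⁻¹ ∈ Q := fun s hs q hq =>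
    (mem_normalizer_iff.mp (hS hs) q).mp hq
  refine ⟨Q, hQp, hxQ, hQH, fun q hq => ?_, fun q hq => ?_, hmax⟩
  · have := hclose _ (le_sup_left (b := zpowers (D.φ uK)) (mem_zpowers (D.φ tK))) q hq
    rwa [hti] at this
  · have := hclose _ (le_sup_right (a := zpowers (D.φ tK)) (mem_zpowers (D.φ uK))) q hq
    rwa [hui] at this

end Data

end CfsgLib.JankoOrder
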